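import Groth.Agent.Lib.DMod.Devissage
import Groth.Agent.Lib.DR.Perfect
import Groth.Agent.Lib.DR.TopCohomology
import Groth.Agent.Lib.DR.Representative

/-!
A pseudo-coherent object with no maps to shifts of the ring is zero (any commutative ring).
-/

set_option linter.style.haveILetI false

universe u

open CategoryTheory CategoryTheory.Limits CategoryTheory.Pretriangulated
open Groth.Agent.Lib.DR Groth.Agent.Lib.DMod
open Groth.Agent.Lib.DR.Basic Groth.Agent.Lib.DR.FiniteComplex Groth.Agent.Lib.DR.PseudoCoherent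
open Groth.Agent.Lib.DMod.Basic

attribute [local instance] HasDerivedCategory.standard

namespace Groth.Agent.Lib.DMod.RelDual.Cancel

variable {A : Type u} [CommRing A]

/-- A nonzero finitely presented module has a nonzero cyclic finitely presented quotient. -/
theorem exists_cyclic_quotient (M : Type u) [AddCommGroup M] [Module A M] [Module.FinitePresentation A M]
    [Nontrivial M] :
    ∃ I : Ideal A, I.FG ∧ I ≠ ⊤ ∧ ∃ π : M →ₗ[A] A ⧸ I, Function.Surjective π := by
  suffices H : ∀ (n : ℕ) (M : Type u) [AddCommGroup M] [Module A M] [Module.FinitePresentation A M]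
      [Nontrivial M], (∃ f : (Fin n → A) →ₗ[A] M, Function.Surjective f) →
      ∃ I : Ideal A, I.FG ∧ I ≠ ⊤ ∧ ∃ π : M →ₗ[A] A ⧸ I, Function.Surjective π by
    obtain ⟨n, f, hf⟩ := Module.Finite.exists_fin' A M
    exact H n M ⟨f, hf⟩
  intro n
  induction n with
  | zero =>
    intro M _ _ _ _ ⟨f, hf⟩
    have : Subsingleton M := hf.subsingleton
    exact absurd this (not_subsingleton M)
  | succ n ih =>
    intro M _ _ _ _ ⟨f, hf⟩
    let j : (Fin n → A) →ₗ[A] (Fin (n + 1) → A) :=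
      LinearMap.pi (Fin.cons (0 : (Fin n → A) →ₗ[A] A) LinearMap.proj)
    by_cases hN : LinearMap.range (f ∘ₗ j) = ⊤
    · exact ih M ⟨f ∘ₗ j, LinearMap.range_eq_top.1 hN⟩
    let N := LinearMap.range (f ∘ₗ j)
    let φ : A →ₗ[A] M ⧸ N := LinearMap.toSpanSingleton A _ (N.mkQ (f (Pi.single 0 1)))
    have hfg : N.FG := by
      show (LinearMap.range (f ∘ₗ j)).FG
      rw [LinearMap.range_eq_map]
      exact Module.Finite.fg_top.map _
    haveI : Module.FinitePresentation A (M ⧸ N) :=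
      Module.finitePresentation_of_surjective N.mkQ N.mkQ_surjective (by rwa [Submodule.ker_mkQ])
    have hφ : Function.Surjective φ := fun y => by
      obtain ⟨m, rfl⟩ := N.mkQ_surjective y
      obtain ⟨x, rfl⟩ := hf m
      refine ⟨x 0, ?_⟩
      have hx : x = x 0 • (Pi.single 0 1 : Fin (n + 1) → A) + j (Fin.tail x) := by
        funext i
        refine Fin.cases ?_ (fun k => ?_) i
        · simp [j]
        · simp [j, Fin.tail]
      have h0 : N.mkQ (f (j (Fin.tail x))) = 0 :=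
        (Submodule.Quotient.mk_eq_zero _).2 ⟨Fin.tail x, rfl⟩
      show x 0 • N.mkQ (f (Pi.single 0 1)) = N.mkQ (f x)
      conv_rhs => rw [hx]
      rw [map_add, map_add, h0, add_zero, map_smul, map_smul]
    refine ⟨LinearMap.ker φ, Module.FinitePresentation.fg_ker φ hφ, fun h => hN ?_,
      (φ.quotKerEquivOfSurjective hφ).symm.toLinearMap ∘ₗ N.mkQ,
      (φ.quotKerEquivOfSurjective hφ).symm.surjective.comp N.mkQ_surjective⟩
    have : Subsingleton (M ⧸ N) := ⟨fun a b => by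
      obtain ⟨r, rfl⟩ := hφ a
      obtain ⟨s, rfl⟩ := hφ b
      have h1 : ∀ t : A, φ t = 0 := fun t => LinearMap.mem_ker.1 (h ▸ Submodule.mem_top)
      rw [h1, h1]⟩
    exact Submodule.Quotient.subsingleton_iff.1 this

/-- A Koszul type perfect complex of a finite list. -/
theorem exists_torsion_perfect (I : Ideal A) :
    ∀ l : List A, (∀ g ∈ l, g ∈ I) → ∃ K : Dual.D A, Perfect.Pf K ∧ K.IsLE 0 ∧
      (∀ g ∈ l, ∀ i : ℤ, ∃ N : ℕ, ∀ x : Dual.HD A K i, g ^ N • x = 0) ∧
      ∃ π : Dual.HD A K 0 →ₗ[A] A ⧸ I, Function.Surjective π := by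
  intro l
  induction l with
  | nil =>
    intro _
    refine ⟨Dual.inD A A, ⟨0, 0, bdd_single good_fproj (P := fproj A)
      (M := ModuleCat.of A A) ⟨inferInstance, inferInstance⟩ 0⟩, inferInstance, by simp,
      I.mkQ ∘ₗ (HDinD A).toLinearMap, I.mkQ_surjective.comp (HDinD A).surjective⟩
  | cons f l ih =>
    intro hl
    obtain ⟨K, hK, hle, hkill, π, hπ⟩ := ih fun g hg => hl g (List.mem_cons_of_mem _ hg)
    obtain ⟨K', g', δ, hT⟩ := distinguished_cocone_triangle (f • 𝟙 K)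
    let T := Triangle.mk (f • 𝟙 K) g' δ
    have hmap : ∀ (i : ℤ) (x : Dual.HD A K i), mapHD (f • 𝟙 K) i x = f • x := fun i x => by
      simp only [mapHD]
      erw [Functor.map_smul, CategoryTheory.Functor.map_id]
      rfl
    let D : ∀ i : ℤ, Dual.HD A K' i →ₗ[A] Dual.HD A K (i + 1) := fun i =>
      (DerivedCategory.HomologySequence.δ T i (i + 1) rfl).hom
    have h₂ : ∀ i : ℤ, Function.Exact (mapHD (f • 𝟙 K) i) (mapHD g' i) := exact_mapHD₂ (T := T) hT
    have h₃ : ∀ i : ℤ, Function.Exact (mapHD g' i) (D i) := fun i => exact_mapHD₃ (T := T) hT i (i + 1) rfl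
    have h₁ : ∀ i : ℤ, Function.Exact (D i) (mapHD (f • 𝟙 K) (i + 1)) :=
      fun i => exact_mapHD₁ (T := T) hT i (i + 1) rfl
    have hz : ∀ i : ℤ, 0 < i → Subsingleton (Dual.HD A K i) := (isLE_iff K 0).1 hle
    refine ⟨K', Perfect.pf₃ T hT hK hK, (isLE_iff K' 0).2 fun i hi => ?_, fun g hg i => ?_, ?_⟩
    · have := hz i hi
      have := hz (i + 1) (by lia)
      refine subsingleton_of_forall_eq 0 fun y => ?_
      obtain ⟨x, rfl⟩ := (h₃ i y).1 (Subsingleton.elim _ _)
      rw [Subsingleton.elim x 0, map_zero]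
    · rcases List.mem_cons.1 hg with hg | hg
      · subst hg
        refine ⟨2, fun y => ?_⟩
        have hy : D i (g • y) = 0 := by
          rw [(D i).map_smul, ← hmap]
          exact (h₁ i).apply_apply_eq_zero y
        obtain ⟨x, hx⟩ := (h₃ i _).1 hy
        rw [pow_two, mul_smul, ← hx, ← (mapHD g' i).map_smul, ← hmap]
        exact (h₂ i).apply_apply_eq_zero x
      · obtain ⟨N₁, hN₁⟩ := hkill g hg i
        obtain ⟨N₂, hN₂⟩ := hkill g hg (i + 1)
        refine ⟨N₁ + N₂, fun y => ?_⟩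
        have hy : D i (g ^ N₂ • y) = 0 := by
          rw [(D i).map_smul, hN₂]
        obtain ⟨x, hx⟩ := (h₃ i _).1 hy
        rw [pow_add, mul_smul, ← hx, ← (mapHD g' i).map_smul, hN₁, map_zero]
    · have := hz (0 + 1) (by lia)
      have hs : Function.Surjective (mapHD g' 0) := fun y => (h₃ 0 y).1 (Subsingleton.elim _ _)
      have hker : LinearMap.ker (mapHD g' 0) ≤ LinearMap.ker π := fun x hx => by
        obtain ⟨z, rfl⟩ := (h₂ 0 x).1 hx
        rw [LinearMap.mem_ker, hmap 0 z, map_smul]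
        obtain ⟨t, ht⟩ := Submodule.Quotient.mk_surjective I (π z)
        rw [← ht, ← Submodule.Quotient.mk_smul, Submodule.Quotient.mk_eq_zero, smul_eq_mul]
        exact I.mul_mem_right t (hl f List.mem_cons_self)
      refine ⟨(LinearMap.ker (mapHD g' 0)).liftQ π hker ∘ₗ
        ((mapHD g' 0).quotKerEquivOfSurjective hs).symm.toLinearMap, ?_⟩
      intro a
      obtain ⟨x, rfl⟩ := hπ a
      exact ⟨(mapHD g' 0).quotKerEquivOfSurjective hs (Submodule.Quotient.mk x), by simp⟩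

theorem exists_killed {Q : Type*} [AddCommGroup Q] [Module A Q] (x : Q) (hx : x ≠ 0) :
    ∀ l : List A, (∀ g ∈ l, ∃ N : ℕ, ∀ y : Q, g ^ N • y = 0) → ∃ y : Q, y ≠ 0 ∧ ∀ g ∈ l, g • y = 0 := by
  intro l
  induction l with
  | nil => exact fun _ => ⟨x, hx, by simp⟩
  | cons f l ih =>
    intro h
    obtain ⟨y, hy, hl⟩ := ih fun g hg => h g (List.mem_cons_of_mem _ hg)
    obtain ⟨N, hN⟩ := h f List.mem_cons_self
    classical
    have hex : ∃ k, f ^ k • y = 0 := ⟨N, hN y⟩
    obtain ⟨k, hk⟩ : ∃ k, Nat.find hex = k + 1 := ⟨Nat.find hex - 1, by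
      have : Nat.find hex ≠ 0 := fun h0 => hy (by simpa [h0] using Nat.find_spec hex)
      lia⟩
    refine ⟨f ^ k • y, Nat.find_min hex (by lia), fun g hg => ?_⟩
    rcases List.mem_cons.1 hg with hg | hg
    · subst hg
      rw [← mul_smul, ← pow_succ', ← hk]
      exact Nat.find_spec hex
    · rw [smul_comm, hl g hg, smul_zero]

theorem subsingleton_hom_pf {C : Dual.D A} (hC : ∀ j : ℤ, Subsingleton (C ⟶ (Dual.inD A A)⟦j⟧))
    {K : Dual.D A} (hK : Perfect.Pf K) (j : ℤ) : Subsingleton (C ⟶ K⟦j⟧) := by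
  have hfin : ∀ (k : ℕ) (j : ℤ), Subsingleton (C ⟶ (Dual.inD A (Fin k → A))⟦j⟧) := by
    intro k
    induction k with
    | zero =>
      intro j
      exact ⟨fun f g => ((shiftFunctor (Dual.D A) j).map_isZero (((DerivedCategory.singleFunctor _ 0)).map_isZero
        (ModuleCat.isZero_of_subsingleton _))).eq_of_tgt f g⟩
    | succ k ih =>
      intro j
      let e : ModuleCat.of A (Fin (k + 1) → A) ≅ ModuleCat.of A A ⊞ ModuleCat.of A (Fin k → A) :=
        (Fin.consLinearEquiv A (fun _ : Fin (k + 1) => A)).symm.toModuleIso ≪≫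
          (ModuleCat.biprodIsoProd (ModuleCat.of A A) (ModuleCat.of A (Fin k → A))).symm
      let F := DerivedCategory.singleFunctor (ModuleCat.{u} A) 0 ⋙ shiftFunctor (Dual.D A) j
      haveI : F.Additive := inferInstance
      have hid : F.map (biprod.fst : ModuleCat.of A A ⊞ ModuleCat.of A (Fin k → A) ⟶ _) ≫ F.map biprod.inl +
          F.map biprod.snd ≫ F.map biprod.inr = 𝟙 _ := by
        rw [← Functor.map_comp, ← Functor.map_comp, ← Functor.map_add, biprod.total, F.map_id]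
      haveI h1 : Subsingleton (C ⟶ F.obj (ModuleCat.of A A)) := hC j
      haveI h2 : Subsingleton (C ⟶ F.obj (ModuleCat.of A (Fin k → A))) := ih j
      have h3 : Subsingleton (C ⟶ F.obj (ModuleCat.of A A ⊞ ModuleCat.of A (Fin k → A))) :=
        subsingleton_of_forall_eq 0 fun φ => by
          rw [← Category.comp_id φ, ← hid, Preadditive.comp_add, ← Category.assoc, ← Category.assoc,
            Subsingleton.elim (φ ≫ F.map biprod.fst) 0, Subsingleton.elim (φ ≫ F.map biprod.snd) 0,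
            zero_comp, zero_comp, add_zero]
      exact ((Iso.homCongr (Iso.refl C) (F.mapIso e)).symm).symm.subsingleton
  obtain ⟨a, b, E, hE, hp, ⟨e⟩⟩ := hK
  suffices H : ∀ j, Subsingleton (C ⟶ (DerivedCategory.Q.obj E)⟦j⟧) from
    have := H j
    (Iso.homCongr (Iso.refl C) ((shiftFunctor (Dual.D A) j).mapIso e)).symm.subsingleton
  refine bdd_induction good_fproj (fun X => ∀ j, Subsingleton (C ⟶ X⟦j⟧))
    (fun hX j => ⟨fun f g => ((shiftFunctor (Dual.D A) j).map_isZero hX).eq_of_tgt f g⟩) ?_ E a b hE hp ?_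
  · intro T hT h₁ h₃ j
    exact subsingleton_hom_to_obj₂ (Triangle.shift_distinguished T hT j) C (h₁ j) (h₃ j)
  · intro S i _ _ ⟨eS⟩ j
    obtain ⟨_, _⟩ := good_fproj.iso eS.symm (hp i)
    obtain ⟨k, f, hf⟩ := Module.Finite.exists_fin' A S
    obtain ⟨s, hs⟩ := Module.projective_lifting_property f LinearMap.id hf
    let c := (shiftFunctor (Dual.D A) j).mapIso (singleShift S (-i) i 0 (by lia)).symm ≪≫
      ((shiftFunctorAdd' (Dual.D A) (-i) j (j - i) (by lia)).app _).symm
    let F := DerivedCategory.singleFunctor (ModuleCat.{u} A) 0 ⋙ shiftFunctor (Dual.D A) (j - i)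
    have hss : (ModuleCat.ofHom s ≫ ModuleCat.ofHom f : ModuleCat.of A S ⟶ _) = 𝟙 _ := ModuleCat.hom_ext hs
    have := hfin k (j - i)
    refine subsingleton_of_forall_eq 0 fun φ => (cancel_mono c.hom).1 ?_
    rw [zero_comp, ← Category.comp_id (φ ≫ c.hom)]
    refine (congrArg ((φ ≫ c.hom) ≫ ·) ((F.map_id (ModuleCat.of A S)).symm.trans (congrArg F.map hss.symm))).trans ?_
    rw [Functor.map_comp, ← Category.assoc]
    exact (congrArg (· ≫ _) (this.elim _ 0)).trans zero_comp

/-- A pseudo-coherent object with no maps to the shifts of the ring is zero. -/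
theorem isZero_of_hom_unit {C : Dual.D A} (hpc : DRing.IsPseudoCoherent' A C)
    (hC : ∀ j : ℤ, Subsingleton (C ⟶ (Dual.inD A A)⟦j⟧)) : IsZero C := by
  classical
  have hpcn := (Representative.isPseudoCoherent'_iff_forall _).1 hpc
  obtain ⟨E, c, hc, -, ⟨eE⟩⟩ := hpc
  have hle : C.IsLE c := isLE_of_iso' eE (isLE_Q_of_isZero E c hc)
  by_contra hne
  have hex : ∃ i, ¬ Subsingleton (Dual.HD A C i) := by
    by_contra h
    push Not at h
    exact hne ((isZero_iff_HD C).2 h)
  obtain ⟨b, hb, hmax⟩ := Int.exists_greatest_of_bdd (P := fun i => ¬ Subsingleton (Dual.HD A C i))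
    ⟨c, fun i hi => le_of_not_gt fun h => hi ((isLE_iff C c).1 hle i h)⟩ hex
  have hleb : C.IsLE b := (isLE_iff C b).2 fun i hi => not_not.1 fun h => absurd (hmax i h) (by lia)
  have hfp : Module.FinitePresentation A (Dual.HD A C b) :=
    (TopCohomology.finite_top ((TopCohomology.pcn_ff_iff_fproj _ _).1 (hpcn (b - 1))) (m := b - 1) (n := b) (by lia) hleb).2 (by lia)
  haveI : Nontrivial (Dual.HD A C b) := not_subsingleton_iff_nontrivial.1 hb
  obtain ⟨I, hIfg, hI, π, hπ⟩ := exists_cyclic_quotient (A := A) (Dual.HD A C b)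
  obtain ⟨s, hs⟩ := hIfg
  obtain ⟨K, hK, hK0, hkill, π₀, hπ₀⟩ := exists_torsion_perfect I s.toList
    (fun g hg => hs ▸ Submodule.subset_span (Finset.mem_toList.1 hg))
  obtain ⟨a, a', hKb⟩ := id hK
  have hKa : K.IsGE a := hKb.isGE
  haveI : Nontrivial (A ⧸ I) := Ideal.Quotient.nontrivial_iff.2 hI
  have hK0' : ¬ Subsingleton (Dual.HD A K 0) := fun h => not_subsingleton (A ⧸ I) hπ₀.subsingleton
  obtain ⟨g, hg, hmin⟩ := Int.exists_least_of_bdd (P := fun i => ¬ Subsingleton (Dual.HD A K i))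
    ⟨a, fun i hi => le_of_not_gt fun h => hi ((isGE_iff K a).1 hKa i h)⟩ ⟨0, hK0'⟩
  have hgeg : K.IsGE g := (isGE_iff K g).2 fun i hi => not_not.1 fun h => absurd (hmin i h) (by lia)
  obtain ⟨x, hx⟩ : ∃ x : Dual.HD A K g, x ≠ 0 := by
    haveI := not_subsingleton_iff_nontrivial.1 hg
    exact exists_ne 0
  obtain ⟨y, hy, hyl⟩ := exists_killed x hx s.toList fun f hf => hkill f hf g
  let h : A ⧸ I →ₗ[A] Dual.HD A K g := I.liftQ (LinearMap.toSpanSingleton A _ y) (by
    rw [← hs, Submodule.span_le]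
    intro f hf
    exact hyl f (Finset.mem_toList.2 hf))
  -- the truncation of `K` at its lowest degree
  obtain ⟨T, hT, hT₂, hT₁, hT₃, e₁, -⟩ := Devissage.exists_trunc K g
  have hge₁ : T.obj₁.IsGE g := (isGE_iff _ g).2 fun i hi => by
    obtain ⟨e⟩ := e₁ i (by lia)
    have := (isGE_iff K g).1 hgeg i hi
    exact e.toEquiv.subsingleton
  obtain ⟨eT⟩ := Devissage.exists_iso_inD_shift T.obj₁ g
  obtain ⟨eg⟩ := e₁ g le_rfl
  have key : ∀ φ : C ⟶ T.obj₁⟦g - b⟧, φ = 0 := by
    intro φ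
    have h2 : Subsingleton (C ⟶ T.obj₂⟦g - b⟧) := hT₂ ▸ subsingleton_hom_pf hC hK (g - b)
    have h3 : Subsingleton (C ⟶ (T.obj₃⟦(-1 : ℤ)⟧)⟦g - b⟧) := by
      refine subsingleton_of_forall_eq 0 fun ψ => ?_
      haveI : (T.obj₃⟦(-1 : ℤ)⟧).IsGE (g + 2) :=
        DerivedCategory.TStructure.t.isGE_shift T.obj₃ (g + 1) (-1) (g + 2) (by lia)
      haveI : ((T.obj₃⟦(-1 : ℤ)⟧)⟦g - b⟧).IsGE (b + 2) :=
        DerivedCategory.TStructure.t.isGE_shift _ (g + 2) (g - b) (b + 2) (by lia)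
      exact DerivedCategory.TStructure.t.zero ψ b (b + 2) (by lia)
    exact (subsingleton_hom_to_obj₂ (Triangle.shift_distinguished _ (inv_rot_of_distTriang _ hT) (g - b))
      C h3 h2).elim φ 0
  obtain ⟨P, M, f, p, k, hd, hP, ⟨eM⟩, -⟩ := exists_peel_top C b hleb
  let u : M ⟶ ModuleCat.of A (Dual.HD A T.obj₁ g) :=
    eM.inv ≫ ModuleCat.ofHom ((eg.symm.toLinearMap ∘ₗ h) ∘ₗ π)
  let c' : (DerivedCategory.singleFunctor (ModuleCat.{u} A) b).obj (ModuleCat.of A (Dual.HD A T.obj₁ g)) ≅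
      T.obj₁⟦g - b⟧ :=
    (singleShift _ (-b) b 0 (by lia)).symm ≪≫ (shiftFunctorAdd' (Dual.D A) (-g) (g - b) (-b) (by lia)).app _ ≪≫
      (shiftFunctor (Dual.D A) (g - b)).mapIso eT.symm
  have h0 : p ≫ (DerivedCategory.singleFunctor (ModuleCat.{u} A) b).map u = 0 := by
    rw [← cancel_mono c'.hom, zero_comp]
    exact key _
  obtain ⟨w, hw⟩ := Triangle.yoneda_exact₃ _ hd ((DerivedCategory.singleFunctor (ModuleCat.{u} A) b).map u) h0
  have hw0 : w = 0 := by
    haveI : (P⟦(1 : ℤ)⟧).IsLE (b - 2) :=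
      DerivedCategory.TStructure.t.isLE_shift P (b - 1) 1 (b - 2) (by lia)
    exact DerivedCategory.TStructure.t.zero (X := P⟦(1 : ℤ)⟧) w (b - 2) b (by lia)
  have hu : u = 0 := (DerivedCategory.singleFunctor (ModuleCat.{u} A) b).map_injective (by
    rw [Functor.map_zero]
    exact hw.trans ((congrArg _ hw0).trans comp_zero))
  obtain ⟨m, hm⟩ := hπ (Submodule.Quotient.mk 1)
  apply hy
  have h1 : eg.symm (h (π m)) = 0 := by
    have := LinearMap.congr_fun (congrArg ModuleCat.Hom.hom hu) (eM.hom.hom m)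
    simpa [u] using this
  rw [hm] at h1
  have h2 := congrArg eg h1
  rw [LinearEquiv.apply_symm_apply, map_zero] at h2
  exact (one_smul A y).symm.trans h2

end Groth.Agent.Lib.DMod.RelDual.Cancel
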