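import Groth.Agent.Lib.DMod.RelDual.Elem
import Groth.Agent.Lib.DMod.Rep
import Groth.Agent.Lib.DR.EvalHomCx
import Groth.Agent.Lib.DR.RelHom
import Groth.Agent.H54.PCRestrict

/-!
Duality with the right adjoint of restriction from a ring over which the object is perfect.
-/

set_option linter.style.haveILetI false

universe u

open CategoryTheory CategoryTheory.Limits MonoidalCategory
open CochainComplex CochainComplex.HomComplex
open Groth.Agent.Lib.DR Groth.Agent.Lib.TensorCx.Basic Groth.Agent.Lib.DR.HomCx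
open Groth.Agent.Lib.DR.FiniteComplex Groth.Agent.Lib.DR.PseudoCoherent
open Groth.Agent.Lib.DMod

attribute [local instance] HasDerivedCategory.standard

namespace Groth.Agent.Lib.DMod.RelDual.Duality

section Biduality

variable {A : Type u} [CommRing A]

theorem qis_comp {X Y Z : DRing.Cx A} (f : X ⟶ Y) (g : Y ⟶ Z) (_ : QuasiIso f) (_ : QuasiIso g) :
    QuasiIso (f ≫ g) := quasiIso_comp f g

/-- The biduality map. -/
noncomputable def bd (X J : DRing.Cx A) : X ⟶ DRing.homCx (DRing.homCx X J) J :=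
  HomCx.homEquiv ((DTen.braidCx X (DRing.homCx X J)).hom ≫ HomCxFinite.ev X J)

theorem bd_apply (X J : DRing.Cx A) (i m r : ℤ) (hm : m + i = r) (x : X.X i) (w : Cochain X J m) :
    lv m r hm ((bd X J).f i x : Cochain (DRing.homCx X J) J i) w =
      (((i * m).negOnePow : ℤˣ) : ℤ) • lv i r (by lia) w x := by
  let H := DRing.homCx X J
  let g : H ⊗ X ⟶ J := HomCxFinite.ev X J
  let w' : H.X m := w
  refine (HomCx.homEquiv_apply ((DTen.braidCx X H).hom ≫ g) i m r hm x w').trans ?_
  refine (ConcreteCategory.congr_hom (HomologicalComplex.comp_f (DTen.braidCx X H).hom g r) _).trans ?_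
  refine (congrArg (g.f r) (EvalHomCx.braid_incl X H i m r (by lia) x w')).trans ?_
  exact (map_zsmul (g.f r).hom _ _).trans (congrArg _ (HomCxFinite.ev_incl X J m i r (by lia) w x))

theorem bd_naturality {X Y : DRing.Cx A} (f : X ⟶ Y) (J : DRing.Cx A) :
    f ≫ bd Y J = bd X J ≫ (RHomRes.precomp ((RHomRes.precomp f).app J)).app J := by
  refine HomologicalComplex.hom_ext _ _ fun i => ModuleCat.hom_ext (LinearMap.ext fun x =>
    lv_ext fun m r hm => LinearMap.ext fun w => ?_)
  refine (bd_apply Y J i m r hm (f.f i x) w).trans ?_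
  refine Eq.trans ?_ (Elem.precomp_apply ((RHomRes.precomp f).app J) i m r hm ((bd X J).f i x) w).symm
  refine Eq.trans ?_ (bd_apply X J i m r hm x (((RHomRes.precomp f).app J).f m w)).symm
  exact congrArg _ (Elem.precomp_apply f m i r (by lia) w x).symm

theorem eval_eq (X J : DRing.Cx A) :
    Elem.endUnit J ▷ X ≫ EvalHomCx.evalHomCx X J J = (λ_ X).hom ≫ bd X J := by
  let W := DRing.homCx X J
  rw [EvalHomCx.evalHomCx, bd, ← HomCx.homEquiv_naturality_left, ← HomCx.homEquiv_naturality_left]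
  refine congrArg _ ?_
  rw [associator_naturality_left_assoc, ← whisker_exchange_assoc]
  rw [show Elem.endUnit J ▷ J ≫ HomCxFinite.ev J J = (λ_ J).hom from
    HomCx.homEquiv.injective (Elem.homEquiv_ev_comp _), MonoidalCategory.leftUnitor_naturality,
    leftUnitor_whiskerRight, Category.assoc]

/-- Biduality for bounded complexes of finite projective modules. -/
theorem quasiIso_bd_of_bdd (J : DRing.Cx A) [J.IsKInjective] (ι : 𝟙_ (DRing.Cx A) ⟶ J) [QuasiIso ι]
    (E : DRing.Cx A) (a b : ℤ) (hE : ∀ i, i < a ∨ b < i → IsZero (E.X i))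
    (hp : ∀ i, fproj A (E.X i)) : QuasiIso (bd E J) := by
  haveI := Elem.quasiIso_endUnit J ι
  haveI := isKProjective_of_bounds projective_of_fproj (fun i hi => hE i (Or.inr hi)) hp
  haveI : QuasiIso (Elem.endUnit J ▷ E) :=
    KFlat.quasiIso_tensor_of_isKFlat (KFlat.isKFlat_of_isKProjective E) _
  haveI := EvalHomCx.isIso_evalHomCx E J J (fun p => hp p)
    (EvalHomCx.finitary_of_bounded E J J (Finset.Icc a b) fun p hp' => hE p (by
      simp only [Finset.mem_Icc, not_and_or, not_le] at hp'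
      exact hp'))
  have h : QuasiIso ((λ_ E).hom ≫ bd E J) := by
    rw [← eval_eq]
    infer_instance
  exact (quasiIso_iff_comp_left _ _).1 h

theorem quasiIso_bd (J : DRing.Cx A) [J.IsKInjective] (ι : 𝟙_ (DRing.Cx A) ⟶ J) [QuasiIso ι]
    {E X : DRing.Cx A} (f : E ⟶ X) [QuasiIso f] (a b : ℤ) (hE : ∀ i, i < a ∨ b < i → IsZero (E.X i))
    (hp : ∀ i, fproj A (E.X i)) : QuasiIso (bd X J) := by
  haveI := quasiIso_bd_of_bdd J ι E a b hE hp
  haveI : QuasiIso ((RHomRes.precomp f).app J) :=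
    (DerivedCategory.isIso_Q_map_iff_quasiIso _ _).1 (RHomRes.isIso_precomp f J)
  haveI : QuasiIso ((RHomRes.precomp ((RHomRes.precomp f).app J)).app J) :=
    (DerivedCategory.isIso_Q_map_iff_quasiIso _ _).1 (RHomRes.isIso_precomp _ J)
  have h : QuasiIso (f ≫ bd X J) := by
    rw [bd_naturality]
    exact qis_comp _ _ inferInstance (by assumption)
  exact (quasiIso_iff_comp_left _ _).1 h

/-- The dual of a bounded complex of finite projective modules is one. -/
theorem pf_dual (E : DRing.Cx A) (a b : ℤ) (hE : ∀ i, i < a ∨ b < i → IsZero (E.X i))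
    (hp : ∀ i, fproj A (E.X i)) :
    Perfect.Pf (DerivedCategory.Q.obj (DRing.homCx E (𝟙_ (DRing.Cx A)))) := by
  let U := 𝟙_ (DRing.Cx A)
  have hU : ∀ i : ℤ, i ≠ 0 → IsZero (U.X i) := fun i hi =>
    HomologicalComplex.isZero_single_obj_X (ComplexShape.up ℤ) 0 (ModuleCat.of A A) i hi
  let s : U.X 0 ≃ₗ[A] A := (HomologicalComplex.singleObjXSelf (ComplexShape.up ℤ) 0 (ModuleCat.of A A)).toLinearEquiv
  have e : ∀ n : ℤ, Nonempty (Cochain E U n ≃ₗ[A] (E.X (-n) →ₗ[A] U.X 0)) := fun n =>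
    ⟨LinearEquiv.ofBijective (lv (-n) 0 (neg_add_cancel n)) ⟨fun z w h => lv_ext fun p q hpq => by
      by_cases hq : q = 0
      · subst hq
        obtain rfl : p = -n := by lia
        exact h
      · haveI := ModuleCat.subsingleton_of_isZero (hU q hq)
        exact LinearMap.ext fun x => Subsingleton.elim _ _, fun φ => ⟨Cochain.mk fun p q _ =>
        if hpq : p = -n ∧ 0 = q then (E.XIsoOfEq hpq.1).hom ≫ ModuleCat.ofHom φ ≫ (U.XIsoOfEq hpq.2).hom else 0, by
          show ((Cochain.mk _ : Cochain E U n).v (-n) 0 _).hom = φ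
          rw [Cochain.mk_v, dif_pos ⟨rfl, rfl⟩]
          simp⟩⟩⟩
  refine ⟨-b, -a, DRing.homCx E U, fun n hn => ?_, fun n => ?_, ⟨Iso.refl _⟩⟩
  · haveI := ModuleCat.subsingleton_of_isZero (hE (-n) (by lia))
    haveI : Subsingleton ((DRing.homCx E U).X n) :=
      ((e n).some.toEquiv.subsingleton : Subsingleton (Cochain E U n))
    exact ModuleCat.isZero_of_subsingleton _
  · obtain ⟨_, _⟩ := hp (-n)
    let e' : Cochain E U n ≃ₗ[A] Module.Dual A (E.X (-n)) :=
      (e n).some.trans (LinearEquiv.congrRight s)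
    show fproj A (ModuleCat.of A (Cochain E U n))
    exact ⟨Module.Finite.equiv e'.symm, Module.Projective.of_equiv e'.symm⟩

end Biduality

section Restrict

variable {P A : Type u} [CommRing P] [CommRing A] (φ : P →+* A)

/-- The counit on complexes. -/
noncomputable abbrev eps₀ (J : DRing.Cx P) : (DTen.resCx φ).obj (FiniteRing.coI φ J) ⟶ J :=
  (FiniteRing.cxa φ).counit.app J

/-- Cochains into a coextended complex. -/
noncomputable def Ψfun (Z : DRing.Cx A) (J : DRing.Cx P) (n : ℤ) :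
    ((DTen.resCx φ).obj (DRing.homCx Z (FiniteRing.coI φ J))).X n →ₗ[P]
      Cochain ((DTen.resCx φ).obj Z) J n where
  toFun z := Cochain.mk fun p q h =>
    (DTen.resM φ).map ((z : Cochain Z (FiniteRing.coI φ J) n).v p q h) ≫ (eps₀ φ J).f q
  map_add' z z' := lv_ext fun p q h => LinearMap.ext fun x =>
    show (eps₀ φ J).f q (_ + _) = _ from map_add ((eps₀ φ J).f q).hom _ _
  map_smul' r z := lv_ext fun p q h => LinearMap.ext fun x =>
    map_smul ((eps₀ φ J).f q).hom r
      (show ((DTen.resCx φ).obj (FiniteRing.coI φ J)).X q from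
        lv p q h (z : Cochain Z (FiniteRing.coI φ J) n) x)

theorem Ψfun_apply (Z : DRing.Cx A) (J : DRing.Cx P) (n p q : ℤ) (h : p + n = q)
    (z : Cochain Z (FiniteRing.coI φ J) n) (x : Z.X p) :
    lv p q h (Ψfun φ Z J n z) x = (eps₀ φ J).f q (lv p q h z x) := rfl

theorem bijective_Ψfun (Z : DRing.Cx A) (J : DRing.Cx P) (n : ℤ) : Function.Bijective (Ψfun φ Z J n) := by
  let adj := ModuleCat.restrictCoextendScalarsAdj.{u, u, u} φ
  have key : ∀ (p q : ℤ) (g : Z.X p ⟶ (FiniteRing.coI φ J).X q),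
      (DTen.resM φ).map g ≫ (eps₀ φ J).f q = (adj.homEquiv (Z.X p) (J.X q)).symm g := fun p q g =>
    ((adj.homEquiv_counit (Z.X p) (J.X q) g).trans (by rfl)).symm
  refine ⟨fun z w hzw => Cochain.ext _ _ fun p q h => ?_, fun z' => ?_⟩
  · have := Cochain.congr_v hzw p q h
    exact (adj.homEquiv _ _).symm.injective ((key p q _).symm.trans (this.trans (key p q _)))
  · refine ⟨Cochain.mk fun p q h => adj.homEquiv (Z.X p) (J.X q) (z'.v p q h), Cochain.ext _ _ fun p q h => ?_⟩
    exact (key p q _).trans ((adj.homEquiv _ _).symm_apply_apply _)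

theorem Ψfun_δ (Z : DRing.Cx A) (J : DRing.Cx P) (n m : ℤ) (hnm : n + 1 = m)
    (z : Cochain Z (FiniteRing.coI φ J) n) :
    δ n m (Ψfun φ Z J n z) = Ψfun φ Z J m (δ n m z) := by
  have h : ∀ (k : ℤ) (w : Cochain Z (FiniteRing.coI φ J) k),
      Ψfun φ Z J k w = (w.map (DTen.resM φ)).comp (Cochain.ofHom (eps₀ φ J)) (add_zero k) := fun k w =>
    Cochain.ext _ _ fun p q hpq => by simp [Ψfun]; rfl
  rw [h, h, δ_comp_zero_cochain _ _ m hnm, δ_ofHom, Cochain.comp_zero, zero_add, δ_map]

/-- Restriction of a Hom complex into a coextended complex. -/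
noncomputable def Ψ (Z : DRing.Cx A) (J : DRing.Cx P) :
    (DTen.resCx φ).obj (DRing.homCx Z (FiniteRing.coI φ J)) ≅ DRing.homCx ((DTen.resCx φ).obj Z) J :=
  HomologicalComplex.Hom.isoOfComponents
    (fun n => (LinearEquiv.ofBijective (Ψfun φ Z J n) (bijective_Ψfun φ Z J n)).toModuleIso)
    (fun n m hnm => ModuleCat.hom_ext (LinearMap.ext fun z => Ψfun_δ φ Z J n m hnm z))

theorem res_bd (F : DRing.Cx A) (J : DRing.Cx P) :
    (DTen.resCx φ).map (bd F (FiniteRing.coI φ J)) ≫ (Ψ φ (DRing.homCx F (FiniteRing.coI φ J)) J).hom =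
      bd ((DTen.resCx φ).obj F) J ≫ (RHomRes.precomp (Ψ φ F J).hom).app J := by
  let I := FiniteRing.coI φ J
  let X := DRing.homCx F I
  refine HomologicalComplex.hom_ext _ _ fun i => ModuleCat.hom_ext (LinearMap.ext fun x =>
    lv_ext fun m r hm => LinearMap.ext fun w => ?_)
  let x' : F.X i := x
  let w' : Cochain F I m := w
  refine (Ψfun_apply φ X J i m r hm ((bd F I).f i x') w').trans ?_
  refine (congrArg ((eps₀ φ J).f r) (bd_apply F I i m r hm x' w')).trans ?_
  refine Eq.trans ?_ (Elem.precomp_apply (Ψ φ F J).hom i m r hm ((bd ((DTen.resCx φ).obj F) J).f i x) w).symm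
  refine Eq.trans ?_ (bd_apply ((DTen.resCx φ).obj F) J i m r hm x (Ψfun φ F J m w)).symm
  exact (map_zsmul ((eps₀ φ J).f r).hom _ _).trans (congrArg _ (Ψfun_apply φ F J m i r (by lia) w' x').symm)

/-- An object perfect over `P` is the dual of a pseudo-coherent one. -/
theorem exists_dual (hφ : Groth.Agent.H54.PCRestrict.PCRing φ) (J : DRing.Cx P) [J.IsKInjective]
    (ι : 𝟙_ (DRing.Cx P) ⟶ J) [QuasiIso ι] (F : DRing.Cx A)
    (hF : Perfect.Pf ((DRing.restrictD φ).obj (DerivedCategory.Q.obj F))) :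
    DRing.IsPseudoCoherent' A (DerivedCategory.Q.obj (DRing.homCx F (FiniteRing.coI φ J))) ∧
      IsIso (DerivedCategory.Q.map (bd F (FiniteRing.coI φ J))) := by
  obtain ⟨a, b, E, hE, hp, ⟨e⟩⟩ := hF
  haveI := isKProjective_of_bounds projective_of_fproj (fun i hi => hE i (Or.inr hi)) hp
  obtain ⟨f, hf⟩ := Basic.exists_Q_map_eq (E := E) (e.hom ≫ (DTen.resFactors φ).hom.app F)
  haveI : QuasiIso f := by
    rw [← DerivedCategory.isIso_Q_map_iff_quasiIso, hf]
    infer_instance
  haveI hb := quasiIso_bd J ι f a b hE hp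
  refine ⟨?_, ?_⟩
  · haveI h1 := RHomRes.isIso_precomp f J
    have h2 : IsIso (DerivedCategory.Q.map ((DRing.homCxFunctor E).map ι)) :=
      RHom.inverts_homCxQ E ι (inferInstance : QuasiIso ι)
    refine (Groth.Agent.H54.PCRestrict.isPseudoCoherent'_res_iff hφ _).2 ?_
    have hpf := (pf_dual E a b hE hp).of_iso (@asIso _ _ _ _ _ h2 ≪≫ (@asIso _ _ _ _ _ h1).symm ≪≫
      DerivedCategory.Q.mapIso (Ψ φ F J).symm ≪≫ ((DTen.resFactors φ).app _).symm)
    obtain ⟨a', b', h'⟩ := hpf
    exact (Representative.isPseudoCoherent'_iff_forall _).2 fun m =>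
      (TopCohomology.pcn_ff_iff_fproj m _).2 (h'.pcn m)
  · refine RelHom.isIso_of_isIso_restrictD φ _ ?_
    refine (NatIso.isIso_map_iff (DTen.resFactors φ) _).2 ?_
    show IsIso (DerivedCategory.Q.map ((DTen.resCx φ).map _))
    haveI : QuasiIso (Ψ φ F J).hom := inferInstance
    have h3 : IsIso (DerivedCategory.Q.map ((RHomRes.precomp (Ψ φ F J).hom).app J)) :=
      RHomRes.isIso_precomp _ J
    have h4 : IsIso (DerivedCategory.Q.map ((DTen.resCx φ).map (bd F (FiniteRing.coI φ J))) ≫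
        DerivedCategory.Q.map (Ψ φ (DRing.homCx F (FiniteRing.coI φ J)) J).hom) := by
      have h5 := IsIso.comp_isIso' ((DerivedCategory.isIso_Q_map_iff_quasiIso _ _).2 hb) h3
      have h6 := ((DerivedCategory.Q.map_comp _ _).symm.trans
        ((congrArg DerivedCategory.Q.map (res_bd φ F J)).trans (DerivedCategory.Q.map_comp _ _)))
      exact h6.symm ▸ h5
    exact @IsIso.of_isIso_comp_right _ _ _ _ _ _ _ inferInstance h4

end Restrict

end Groth.Agent.Lib.DMod.RelDual.Duality
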