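import Groth.Agent.Lib.DR.RHomRes
import Groth.Agent.Lib.DR.Invertible
import Groth.Agent.Lib.DR.HomCxFinite
import Groth.Agent.Lib.DMod.RelDual.Cancel

/-!
Hom complexes with the cohomology of the ring.
-/

set_option linter.style.haveILetI false

universe u

open CategoryTheory CategoryTheory.Limits CategoryTheory.Pretriangulated MonoidalCategory
open CochainComplex CochainComplex.HomComplex
open Groth.Agent.Lib.DR Groth.Agent.Lib.TensorCx.Basic

attribute [local instance] HasDerivedCategory.standard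

namespace Groth.Agent.Lib.DMod.RelDual.Elem

variable {A : Type u} [CommRing A]

section Elements

variable {K L : DRing.Cx A} (f : K ⟶ L) [QuasiIso f]

theorem exists_cycle_preimage (i j k : ℤ) (hij : i + 1 = j) (hjk : j + 1 = k) (z : L.X j) (hz : L.d j k z = 0) :
    ∃ x, K.d j k x = 0 ∧ ∃ y, L.d i j y = z - f.f j x := by
  let φ := (HomologicalComplex.shortComplexFunctor' (ModuleCat.{u} A) (.up ℤ) i j k).map f
  let γ : ShortComplex.LeftHomologyMapData φ (K.sc' i j k).moduleCatLeftHomologyData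
      (L.sc' i j k).moduleCatLeftHomologyData := default
  haveI : IsIso γ.φH := γ.quasiIso_iff.1
    ((quasiIsoAt_iff' f i j k (by simp; lia) (by simp; lia)).1 inferInstance)
  let z' : LinearMap.ker (L.sc' i j k).g.hom := ⟨z, hz⟩
  obtain ⟨w, hw⟩ := ((ConcreteCategory.isIso_iff_bijective γ.φH).1 inferInstance).2
    ((L.sc' i j k).moduleCatLeftHomologyData.π z')
  obtain ⟨x, rfl⟩ := Submodule.mkQ_surjective _ w
  refine ⟨x.1, x.2, ?_⟩
  have h1 := (ConcreteCategory.congr_hom γ.commπ x).symm.trans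
    (show γ.φH ((K.sc' i j k).moduleCatLeftHomologyData.π x) = _ from hw)
  let w : LinearMap.ker (L.sc' i j k).g.hom := γ.φK x
  have h2 : ((L.sc' i j k).moduleCatLeftHomologyData.π.hom) (z' - w : LinearMap.ker (L.sc' i j k).g.hom) = 0 :=
    (map_sub _ z' w).trans (sub_eq_zero.2 h1.symm)
  obtain ⟨y, hy⟩ := (Submodule.Quotient.mk_eq_zero _).1 h2
  refine ⟨y, (congrArg Subtype.val hy).trans ?_⟩
  show z - (show L.X j from w.1) = _
  exact congrArg (z - ·) ((ConcreteCategory.congr_hom γ.commi x) :)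

theorem exists_boundary_preimage (i j k : ℤ) (hij : i + 1 = j) (hjk : j + 1 = k) (x : K.X j) (hx : K.d j k x = 0)
    (y : L.X i) (hy : L.d i j y = f.f j x) : ∃ y', K.d i j y' = x := by
  let φ := (HomologicalComplex.shortComplexFunctor' (ModuleCat.{u} A) (.up ℤ) i j k).map f
  let γ : ShortComplex.LeftHomologyMapData φ (K.sc' i j k).moduleCatLeftHomologyData
      (L.sc' i j k).moduleCatLeftHomologyData := default
  haveI : IsIso γ.φH := γ.quasiIso_iff.1
    ((quasiIsoAt_iff' f i j k (by simp; lia) (by simp; lia)).1 inferInstance)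
  let x' : LinearMap.ker (K.sc' i j k).g.hom := ⟨x, hx⟩
  have h1 : γ.φH ((K.sc' i j k).moduleCatLeftHomologyData.π x') = 0 := by
    refine (ConcreteCategory.congr_hom γ.commπ x').trans ?_
    exact (Submodule.Quotient.mk_eq_zero _).2 ⟨y, Subtype.ext (hy.trans
      (ConcreteCategory.congr_hom γ.commi x').symm)⟩
  have h2 : (K.sc' i j k).moduleCatLeftHomologyData.π x' = 0 :=
    ((ConcreteCategory.isIso_iff_bijective γ.φH).1 inferInstance).1 (h1.trans (map_zero γ.φH.hom).symm)
  obtain ⟨y', hy'⟩ := (Submodule.Quotient.mk_eq_zero _).1 h2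
  exact ⟨y', congrArg Subtype.val hy'⟩

end Elements

theorem whiskerLeft_incl (L : DRing.Cx A) {M M' : DRing.Cx A} (f : M ⟶ M') (i j n : ℤ) (h : i + j = n)
    (a : L.X i) (b : M.X j) : (L ◁ f).f n (incl L M i j n h (a ⊗ₜ b)) = incl L M' i j n h (a ⊗ₜ f.f j b) :=
  mapR_incl L f i j n h (a ⊗ₜ b)

theorem whiskerLeft_comp_apply (X : DRing.Cx A) {F K J : DRing.Cx A} (q : F ⟶ K) (g : X ⊗ K ⟶ J) (n p r : ℤ)
    (h h' : n + p = r) (x : X.X n) (k : F.X p) :
    (X ◁ q ≫ g).f r (incl X F n p r h (x ⊗ₜ k)) = g.f r (incl X K n p r h' (x ⊗ₜ q.f p k)) :=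
  (ConcreteCategory.congr_hom (HomologicalComplex.comp_f (X ◁ q) g r) _).trans
    (congrArg (g.f r) (whiskerLeft_incl X q n p r h x k))

/-- Precomposition on cochains. -/
theorem precomp_apply {F K J : DRing.Cx A} (q : F ⟶ K) (n p r : ℤ) (h : p + n = r) (z : Cochain K J n)
    (k : F.X p) :
    HomCx.lv p r h (((RHomRes.precomp q).app J).f n z : Cochain F J n) k = HomCx.lv p r h z (q.f p k) := by
  have e : (RHomRes.precomp q).app J = HomCx.homEquiv (DRing.homCx K J ◁ q ≫ HomCxFinite.ev K J) := by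
    rw [← RHomRes.homEquiv_comp_precomp, show HomCx.homEquiv (HomCxFinite.ev K J) = 𝟙 _ from
      HomCx.homEquiv.apply_symm_apply _, Category.id_comp]
  rw [e]
  let X := DRing.homCx K J
  let g : X ⊗ K ⟶ J := HomCxFinite.ev K J
  let z' : X.X n := z
  exact (HomCx.homEquiv_apply (X ◁ q ≫ g) n p r h z' k).trans
    ((whiskerLeft_comp_apply X q g n p r (show n + p = r by lia) (show n + p = r by lia) z' k).trans
      (HomCxFinite.ev_incl K J n p r h z (q.f p k)))

theorem homEquiv_ev_comp {X P L : DRing.Cx A} (g : X ⟶ DRing.homCx P L) :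
    HomCx.homEquiv (g ▷ P ≫ HomCxFinite.ev P L) = g :=
  (HomCx.homEquiv_naturality_left g _).trans ((congrArg (g ≫ ·) (HomCx.homEquiv.apply_symm_apply _)).trans
    (Category.comp_id g))

theorem isIso_homEquiv_rightUnitor (L : DRing.Cx A) :
    IsIso (HomCx.homEquiv (ρ_ L).hom : L ⟶ DRing.homCx (𝟙_ (DRing.Cx A)) L) := by
  let H := DRing.homCx (𝟙_ (DRing.Cx A)) L
  let v : H ⟶ L := (ρ_ H).inv ≫ HomCxFinite.ev (𝟙_ (DRing.Cx A)) L
  refine ⟨⟨v, ?_, ?_⟩⟩
  · let g : L ⟶ H := HomCx.homEquiv (ρ_ L).hom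
    have h : g ▷ 𝟙_ (DRing.Cx A) ≫ HomCxFinite.ev (𝟙_ (DRing.Cx A)) L = (ρ_ L).hom :=
      HomCx.homEquiv.injective (homEquiv_ev_comp g)
    show g ≫ (ρ_ H).inv ≫ _ = _
    rw [← Category.assoc, rightUnitor_inv_naturality, Category.assoc, h, Iso.inv_hom_id]
  · refine (HomCx.homEquiv_naturality_left v _).symm.trans ?_
    refine (congrArg HomCx.homEquiv ?_).trans (HomCx.homEquiv.apply_symm_apply (𝟙 H))
    rw [rightUnitor_naturality]
    show (ρ_ H).hom ≫ (ρ_ H).inv ≫ _ = _
    rw [Iso.hom_inv_id_assoc]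
    rfl

/-- The unit into the endomorphism complex. -/
noncomputable def endUnit (J : DRing.Cx A) : 𝟙_ (DRing.Cx A) ⟶ DRing.homCx J J :=
  HomCx.homEquiv (λ_ J).hom

theorem quasiIso_endUnit (J : DRing.Cx A) [J.IsKInjective] (ι : 𝟙_ (DRing.Cx A) ⟶ J) [QuasiIso ι] :
    QuasiIso (endUnit J) := by
  have e : endUnit J ≫ (RHomRes.precomp ι).app J =
      HomCx.homEquiv (ρ_ (𝟙_ (DRing.Cx A))).hom ≫ (DRing.homCxFunctor (𝟙_ (DRing.Cx A))).map ι := by
    rw [endUnit, RHomRes.homEquiv_comp_precomp, ← HomCx.homEquiv_naturality_right, leftUnitor_naturality,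
      unitors_equal]
  have hp : IsIso (DerivedCategory.Q.map ((RHomRes.precomp ι).app J)) := RHomRes.isIso_precomp ι J
  haveI := isIso_homEquiv_rightUnitor (𝟙_ (DRing.Cx A))
  have hm : IsIso (DerivedCategory.Q.map ((DRing.homCxFunctor (𝟙_ (DRing.Cx A))).map ι)) :=
    RHom.inverts_homCxQ _ ι (inferInstance : QuasiIso ι)
  rw [← DerivedCategory.isIso_Q_map_iff_quasiIso]
  have : IsIso (DerivedCategory.Q.map (endUnit J) ≫ DerivedCategory.Q.map ((RHomRes.precomp ι).app J)) := by
    rw [← Functor.map_comp, e, Functor.map_comp]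
    exact IsIso.comp_isIso' inferInstance hm
  exact @IsIso.of_isIso_comp_right _ _ _ _ _ (DerivedCategory.Q.map (endUnit J))
    (DerivedCategory.Q.map ((RHomRes.precomp ι).app J)) hp this

section Generator

variable {F K : DRing.Cx A}

theorem exists_generator [K.IsKInjective] (g : 𝟙_ (DRing.Cx A) ⟶ DRing.homCx F K) [QuasiIso g] :
    ∃ u : DerivedCategory.Q.obj F ⟶ DerivedCategory.Q.obj K,
      Function.Bijective (fun a : A => a • u) ∧
      ∀ j : ℤ, j ≠ 0 → Subsingleton (DerivedCategory.Q.obj F ⟶ (DerivedCategory.Q.obj K)⟦j⟧) := by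
  let U := 𝟙_ (DRing.Cx A)
  let s := HomologicalComplex.singleObjXSelf (ComplexShape.up ℤ) 0 (ModuleCat.of A A)
  let one : U.X 0 := s.inv (1 : A)
  have hone : ∀ x : U.X 0, ∃ a : A, x = a • one := fun x => ⟨s.hom x, by
    refine (ConcreteCategory.congr_hom s.hom_inv_id x).symm.trans ?_
    show s.inv (s.hom x) = _
    rw [← map_smul]
    exact congrArg s.inv (mul_one (s.hom x : A)).symm⟩
  have hone' : ∀ a : A, a • one = 0 → a = 0 := fun a ha => by
    have := congrArg s.hom ha
    rw [map_zero, map_smul, show s.hom one = (1 : A) from ConcreteCategory.congr_hom s.inv_hom_id (1 : A)] at this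
    exact (mul_one a).symm.trans this
  have hz : ∀ i : ℤ, i ≠ 0 → IsZero (U.X i) := fun i hi =>
    HomologicalComplex.isZero_single_obj_X (ComplexShape.up ℤ) 0 (ModuleCat.of A A) i hi
  have hd : ∀ x : U.X 0, U.d 0 1 x = 0 := fun x =>
    (ModuleCat.subsingleton_of_isZero (hz 1 (by lia))).elim _ _
  let c : Cochain F K 0 := g.f 0 one
  have hc : δ 0 1 c = 0 :=
    (ConcreteCategory.congr_hom (g.comm 0 1) one).trans ((congrArg (g.f 1) (hd one)).trans (map_zero _))
  let h : F ⟶ K := Cocycle.homOf (Cocycle.mk c 1 rfl hc)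
  have hh : Cochain.ofHom h = c := Cocycle.cochain_ofHom_homOf_eq_coe _
  have hsmul : ∀ a : A, Cochain.ofHom (a • h) = a • Cochain.ofHom h := fun a =>
    Cochain.ext _ _ fun p q hpq => by
      obtain rfl : q = p := by lia
      simp
  refine ⟨DerivedCategory.Q.map h, ⟨?_, ?_⟩, fun j hj => ?_⟩
  · intro a a' haa
    have h1 : DerivedCategory.Q.map ((a - a') • h) = DerivedCategory.Q.map (0 : F ⟶ K) := by
      rw [Functor.map_smul, Functor.map_zero, sub_smul, sub_eq_zero]
      exact haa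
    obtain ⟨H⟩ := EvalHom.nonempty_homotopy_of_Q_map_eq_injective h1
    obtain ⟨z, hz'⟩ := Cochain.equivHomotopy _ _ H
    rw [Cochain.ofHom_zero, add_zero, hsmul, hh] at hz'
    obtain ⟨y, hy⟩ := exists_boundary_preimage g (-1) 0 1 (by lia) (by lia) ((a - a') • one)
      (hd _) z (hz'.symm.trans (map_smul (g.f 0).hom (a - a') one).symm)
    haveI := ModuleCat.subsingleton_of_isZero (hz (-1) (by lia))
    rw [Subsingleton.elim y 0, map_zero] at hy
    exact sub_eq_zero.1 (hone' _ hy.symm)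
  · intro φ
    obtain ⟨v, rfl⟩ := EvalHom.exists_Q_map_eq_injective φ
    obtain ⟨x, -, y, hy⟩ := exists_cycle_preimage g (-1) 0 1 (by lia) (by lia) (Cochain.ofHom v) (δ_ofHom v)
    obtain ⟨a, rfl⟩ := hone x
    refine ⟨a, ?_⟩
    show a • DerivedCategory.Q.map h = _
    rw [← Functor.map_smul]
    refine (DerivedCategory.Q_map_eq_of_homotopy _ ((Cochain.equivHomotopy v (a • h)).symm ⟨y, ?_⟩)).symm
    rw [hsmul, hh]
    exact eq_add_of_sub_eq' (hy.trans (congrArg (Cochain.ofHom v - ·) (map_smul (g.f 0).hom a one))).symm |>.trans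
      (add_comm _ _)
  · refine subsingleton_of_forall_eq 0 fun φ => ?_
    let e := (DerivedCategory.Q.commShiftIso (C := CochainComplex (ModuleCat.{u} A) ℤ) j).app K
    obtain ⟨v, hv⟩ := EvalHom.exists_Q_map_eq_injective (K := K⟦j⟧) (φ ≫ e.inv)
    let z := Cocycle.equivHomShift v
    obtain ⟨x, -, y, hy⟩ := exists_cycle_preimage g (j - 1) j (j + 1) (by lia) rfl (z.1 : Cochain F K j)
      ((Cocycle.mem_iff j (j + 1) rfl _).1 z.2)
    haveI := ModuleCat.subsingleton_of_isZero (hz j hj)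
    rw [Subsingleton.elim x 0, map_zero, sub_zero] at hy
    have h0 : CohomologyClass.toHom (CohomologyClass.mk z) = 0 :=
      (CohomologyClass.toHom_mk_eq_zero_iff z).2 ⟨j - 1, by lia, y, hy⟩
    rw [CohomologyClass.toHom_mk, AddEquiv.symm_apply_apply, HomotopyCategory.quotient_map_eq_zero_iff] at h0
    have h1 := DerivedCategory.Q_map_eq_of_homotopy _ h0.some
    rw [hv, Functor.map_zero] at h1
    rw [← cancel_mono e.inv, zero_comp]
    exact h1

/-- A free generator of an endomorphism module can be taken to be the identity. -/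
theorem bijective_smul_id {X : Dual.D A} (u : X ⟶ X) (hu : Function.Bijective fun a : A => a • u) :
    Function.Bijective fun a : A => a • 𝟙 X := by
  obtain ⟨c, hc⟩ := hu.2 (𝟙 X)
  obtain ⟨d, hd⟩ := hu.2 (u ≫ u)
  simp only at hc hd
  have h1 : (1 : A) • u = (c * d) • u := by
    rw [one_smul, mul_smul, hd, ← Linear.smul_comp, hc, Category.id_comp]
  have h2 : d * c = 1 := (mul_comm d c).trans (hu.1 h1).symm
  refine ⟨fun a b hab => ?_, fun φ => ?_⟩
  · simp only [← hc, ← mul_smul] at hab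
    have := congrArg (· * d) (hu.1 hab)
    simpa [mul_assoc, mul_comm c d, h2] using this
  · obtain ⟨a, ha⟩ := hu.2 φ
    refine ⟨a * d, ?_⟩
    show (a * d) • 𝟙 X = φ
    rw [← hc, ← mul_smul, mul_assoc, h2, mul_one]
    exact ha

/-- A complex whose dual into a resolution of the ring is trivial is trivial. -/
theorem nonempty_iso_unit [K.IsKInjective] (hF : DRing.IsPseudoCoherent' A (DerivedCategory.Q.obj F))
    (eK : DerivedCategory.Q.obj K ≅ DTen.unit A)
    (e : DerivedCategory.Q.obj (DRing.homCx F K) ≅ DTen.unit A) :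
    Nonempty (DerivedCategory.Q.obj F ≅ DTen.unit A) := by
  obtain ⟨g, hg⟩ := Basic.exists_Q_map_eq (E := 𝟙_ (DRing.Cx A)) e.inv
  haveI : QuasiIso g := by
    rw [← DerivedCategory.isIso_Q_map_iff_quasiIso, hg]
    infer_instance
  obtain ⟨ι, hι⟩ := EvalHom.exists_Q_map_eq_injective eK.inv
  haveI : QuasiIso ι := by
    rw [← DerivedCategory.isIso_Q_map_iff_quasiIso, hι]
    infer_instance
  haveI := quasiIso_endUnit K ι
  obtain ⟨u, hu, hu0⟩ := exists_generator g
  obtain ⟨w, hw, hw0⟩ := exists_generator (endUnit K)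
  have hid := bijective_smul_id w hw
  let X := DerivedCategory.Q.obj K
  have hb : ∀ j : ℤ, Function.Bijective fun φ : X ⟶ X⟦j⟧ => u ≫ φ := by
    intro j
    by_cases hj : j = 0
    · subst hj
      let z := (CategoryTheory.shiftFunctorZero (Dual.D A) ℤ).app X
      have h1 : Function.Bijective fun φ : X ⟶ X => u ≫ φ := by
        refine (Function.Bijective.of_comp_iff _ hid).1 ?_
        convert hu using 1
        funext a
        simp
      have h2 := ((Iso.homCongr (Iso.refl (DerivedCategory.Q.obj F)) z.symm).bijective.comp h1).comp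
        (Iso.homCongr (Iso.refl X) z.symm).symm.bijective
      convert h2 using 1
      funext φ
      simp [z, Iso.homCongr]
    · exact ⟨fun _ _ _ => (hw0 j hj).elim _ _, fun φ => ⟨0, (hu0 j hj).elim _ _⟩⟩
  obtain ⟨C, p, δ', hT⟩ := distinguished_cocone_triangle u
  let T := Triangle.mk u p δ'
  have hCX : ∀ (j : ℤ) (φ : C ⟶ X⟦j⟧), φ = 0 := by
    intro j φ
    have h1 : p ≫ φ = 0 := (hb j).1 (by
      show u ≫ p ≫ φ = u ≫ 0
      rw [comp_zero, ← Category.assoc, show u ≫ p = 0 from comp_distTriang_mor_zero₁₂ T hT, zero_comp])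
    obtain ⟨v, hv⟩ := Triangle.yoneda_exact₃ T hT φ h1
    let c := (CategoryTheory.shiftFunctorAdd' (Dual.D A) (j - 1) 1 j (by lia)).app X
    obtain ⟨v', hv'⟩ : ∃ v', v'⟦(1 : ℤ)⟧' = v ≫ c.hom :=
      ⟨(CategoryTheory.shiftFunctor (Dual.D A) (1 : ℤ)).preimage (v ≫ c.hom), Functor.map_preimage _ _⟩
    obtain ⟨w', hw'⟩ := (hb (j - 1)).2 v'
    rw [← cancel_mono c.hom, zero_comp]
    refine ((congrArg (· ≫ c.hom) hv).trans ((Category.assoc _ _ _).trans
      (congrArg (δ' ≫ ·) (hv'.symm.trans (congrArg (fun t => t⟦(1 : ℤ)⟧') hw'.symm))))).trans ?_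
    refine (congrArg (δ' ≫ ·) (Functor.map_comp _ u w')).trans ((Category.assoc _ _ _).symm.trans ?_)
    exact (congrArg (· ≫ _) (comp_distTriang_mor_zero₃₁ T hT)).trans zero_comp
  have hpc : DRing.IsPseudoCoherent' A C := by
    rw [Representative.isPseudoCoherent'_iff_forall] at hF ⊢
    have hK : DRing.IsPseudoCoherent' A X := (Representative.isPseudoCoherent'_iff_forall _).2 fun m =>
      ((FiniteComplex.bdd_single PseudoCoherent.good_ff (P := PseudoCoherent.ff A)
        (M := ModuleCat.of A A) ⟨inferInstance, inferInstance⟩ 0).pcn m).of_iso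
        ((DerivedCategory.singleFunctorIsoCompQ (ModuleCat.{u} A) 0).app _ ≪≫ eK.symm)
    rw [Representative.isPseudoCoherent'_iff_forall] at hK
    exact fun m => FiniteComplex.PCn.cone PseudoCoherent.good_ff PseudoCoherent.projective_of_ff T hT
      (hF (m + 1)) (hK m)
  let eA : Dual.inD A A ≅ X := (DerivedCategory.singleFunctorIsoCompQ (ModuleCat.{u} A) 0).app _ ≪≫ eK.symm
  have hC := Cancel.isZero_of_hom_unit hpc fun j => subsingleton_of_forall_eq 0 fun φ =>
    (cancel_mono ((CategoryTheory.shiftFunctor (Dual.D A) j).map eA.hom)).1 ((hCX j _).trans zero_comp.symm)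
  haveI : IsIso u := (Triangle.isZero₃_iff_isIso₁ T hT).1 hC
  exact ⟨asIso u ≪≫ eK⟩

end Generator

end Groth.Agent.Lib.DMod.RelDual.Elem
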