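import Groth.Agent.Lib.DMod.RelDual.Elem
import Groth.Agent.Lib.DMod.Rep
import Groth.Agent.Lib.DMod.FlatHom

/-!
Hom complexes, a flat base change, and coextension along a retraction of it.
-/

set_option linter.style.haveILetI false

universe u

open CategoryTheory CategoryTheory.Limits MonoidalCategory
open CochainComplex CochainComplex.HomComplex
open Groth.Agent.Lib.DR Groth.Agent.Lib.TensorCx.Basic Groth.Agent.Lib.DR.HomCx
open Groth.Agent.Lib.DR.FiniteComplex Groth.Agent.Lib.DR.PseudoCoherent
open Groth.Agent.Lib.DMod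
open scoped TensorProduct ChangeOfRings

attribute [local instance] HasDerivedCategory.standard

namespace Groth.Agent.Lib.DMod.RelDual.Extend

variable {A B : Type u} [CommRing A] [CommRing B] (i : A →+* B)

/-- `1 ⊗ x`. -/
noncomputable abbrev one₁ {M : ModuleCat.{u} A} (x : M) : (DTen.extM i).obj M := (1 : B) ⊗ₜ[A,i] x

theorem one₁_smul {M : ModuleCat.{u} A} (a : A) (x : M) : one₁ i (a • x) = i a • one₁ i x := by
  letI := i.toAlgebra
  show (1 : B) ⊗ₜ[A] (a • x) = i a • ((1 : B) ⊗ₜ[A] x)
  rw [TensorProduct.tmul_smul]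
  exact (algebraMap_smul B a _).symm

theorem one₁_add {M : ModuleCat.{u} A} (x y : M) : one₁ i (x + y) = one₁ i x + one₁ i y := by
  letI := i.toAlgebra
  exact TensorProduct.tmul_add (1 : B) x y

theorem smul_one₁ {M : ModuleCat.{u} A} (s : B) (x : M) : s • one₁ i x = s ⊗ₜ[A,i] x :=
  (ModuleCat.ExtendScalars.smul_tmul i s 1 x).trans (by rw [mul_one])

theorem induction₁ {M : ModuleCat.{u} A} {P : (DTen.extM i).obj M → Prop} (h0 : P 0)
    (hadd : ∀ x y, P x → P y → P (x + y)) (hs : ∀ (s : B) (m : M), P (s • one₁ i m)) (t : (DTen.extM i).obj M) :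
    P t := by
  letI := i.toAlgebra
  induction t using TensorProduct.induction_on with
  | zero => exact h0
  | add x y hx hy => exact hadd x y hx hy
  | tmul s m =>
    have := hs s m
    rw [smul_one₁] at this
    exact this

theorem homEquiv_symm_one {M : ModuleCat.{u} A} {N : ModuleCat.{u} B} (g : M ⟶ (DTen.resM i).obj N) (m : M) :
    ((ModuleCat.extendRestrictScalarsAdj.{u} i).homEquiv M N).symm g (one₁ i m) = g m :=
  ConcreteCategory.congr_hom (((ModuleCat.extendRestrictScalarsAdj.{u} i).homEquiv_unit _ _ _).symm.trans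
    (((ModuleCat.extendRestrictScalarsAdj.{u} i).homEquiv M N).apply_symm_apply g)) m

/-- Applying extension of scalars to a cochain. -/
noncomputable def β₀ (F I : DRing.Cx A) (n : ℤ) :
    (DRing.homCx F I).X n ⟶
      (DTen.resM i).obj ((DRing.homCx ((DTen.extCx i).obj F) ((DTen.extCx i).obj I)).X n) :=
  ModuleCat.ofHom
    (Y := (DTen.resM i).obj ((DRing.homCx ((DTen.extCx i).obj F) ((DTen.extCx i).obj I)).X n))
    { toFun := fun z => ((z : Cochain F I n).map (DTen.extM i) :
        Cochain ((DTen.extCx i).obj F) ((DTen.extCx i).obj I) n)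
      map_add' := fun z z' => Cochain.map_add _ _ _
      map_smul' := fun a z => Cochain.ext _ _ fun p q h => ModuleCat.ExtendScalars.hom_ext fun m =>
        one₁_smul i a (((z : Cochain F I n).v p q h) m) }

/-- Extension of scalars of a Hom complex, in one degree. -/
noncomputable def βX (F I : DRing.Cx A) (n : ℤ) :
    (DTen.extM i).obj ((DRing.homCx F I).X n) ⟶
      (DRing.homCx ((DTen.extCx i).obj F) ((DTen.extCx i).obj I)).X n :=
  ((ModuleCat.extendRestrictScalarsAdj.{u} i).homEquiv _ _).symm (β₀ i F I n)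

theorem βX_one (F I : DRing.Cx A) (n : ℤ) (z : Cochain F I n) :
    βX i F I n (one₁ i (M := (DRing.homCx F I).X n) z) =
      (z.map (DTen.extM i) : Cochain ((DTen.extCx i).obj F) ((DTen.extCx i).obj I) n) :=
  let z' : (DRing.homCx F I).X n := z
  homEquiv_symm_one i (β₀ i F I n) z'

/-- Extension of scalars of a Hom complex. -/
noncomputable def β (F I : DRing.Cx A) : (DTen.extCx i).obj (DRing.homCx F I) ⟶
    DRing.homCx ((DTen.extCx i).obj F) ((DTen.extCx i).obj I) where
  f n := βX i F I n
  comm' n m hnm := ModuleCat.ExtendScalars.hom_ext fun z => by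
    let z' : Cochain F I n := z
    refine (congrArg ((DRing.homCx ((DTen.extCx i).obj F) ((DTen.extCx i).obj I)).d n m) (βX_one i F I n z')).trans ?_
    exact (δ_map (z := z') (Φ := DTen.extM i) (m := m)).trans (βX_one i F I m (δ n m z')).symm

/-- The value of a cochain out of an extended complex at `1 ⊗ x`. -/
noncomputable def val (F : DRing.Cx A) (J : DRing.Cx B) (n p q : ℤ) (h : p + n = q) (x : F.X p) :
    Cochain ((DTen.extCx i).obj F) J n →ₗ[B] J.X q :=
  LinearMap.applyₗ (show ((DTen.extCx i).obj F).X p from one₁ i x) ∘ₗ lv p q h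

theorem cochain_ext (F : DRing.Cx A) (J : DRing.Cx B) (n : ℤ) {w w' : Cochain ((DTen.extCx i).obj F) J n}
    (h : ∀ p q hpq x, val i F J n p q hpq x w = val i F J n p q hpq x w') : w = w' :=
  Cochain.ext _ _ fun p q hpq => ModuleCat.ExtendScalars.hom_ext (h p q hpq)

theorem val_add (F : DRing.Cx A) (J : DRing.Cx B) (n p q : ℤ) (h : p + n = q) (x y : F.X p)
    (w : Cochain ((DTen.extCx i).obj F) J n) :
    val i F J n p q h (x + y) w = val i F J n p q h x w + val i F J n p q h y w :=
  (congrArg (lv p q h w) (show (show ((DTen.extCx i).obj F).X p from one₁ i (x + y)) = _ from one₁_add i x y)).trans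
    (map_add (lv p q h w) _ _)

theorem val_smul (F : DRing.Cx A) (J : DRing.Cx B) (n p q : ℤ) (h : p + n = q) (r : A) (x : F.X p)
    (w : Cochain ((DTen.extCx i).obj F) J n) :
    val i F J n p q h (r • x) w = i r • val i F J n p q h x w :=
  (congrArg (lv p q h w) (show (show ((DTen.extCx i).obj F).X p from one₁ i (r • x)) = _ from one₁_smul i r x)).trans
    (map_smul (lv p q h w) _ _)

/-- The value of the image of `βX`. -/
noncomputable def valβ (F I : DRing.Cx A) (n p q : ℤ) (h : p + n = q) (k : F.X p) :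
    (DTen.extM i).obj ((DRing.homCx F I).X n) →ₗ[B] (DTen.extM i).obj (I.X q) :=
  val i F ((DTen.extCx i).obj I) n p q h k ∘ₗ (βX i F I n).hom

theorem valβ_smul (F I : DRing.Cx A) (n p q : ℤ) (h : p + n = q) (s : B) (z : Cochain F I n) (k : F.X p) :
    valβ i F I n p q h k (s • one₁ i (M := (DRing.homCx F I).X n) z) = s • one₁ i (lv p q h z k) := by
  refine (map_smul (valβ i F I n p q h k) s (one₁ i (M := (DRing.homCx F I).X n) z)).trans (congrArg (s • ·) ?_)
  exact (congrArg (val i F ((DTen.extCx i).obj I) n p q h k) (βX_one i F I n z)).trans rfl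

/-- The degree one pieces of the inverse. -/
noncomputable def rk (F I : DRing.Cx A) {p : ℤ} (φ : F.X p →ₗ[A] A) (q n : ℤ) :
    (DTen.extM i).obj (I.X q) ⟶ (DTen.extM i).obj ((DRing.homCx F I).X n) :=
  (DTen.extM i).map (ModuleCat.ofHom (Y := (DRing.homCx F I).X n) (HomCxFinite.rankOne F I φ q n))

theorem rk_smul_one (F I : DRing.Cx A) {p : ℤ} (φ : F.X p →ₗ[A] A) (q n : ℤ) (s : B) (l : I.X q) :
    rk i F I φ q n (s • one₁ i l) =
      s • one₁ i (M := (DRing.homCx F I).X n) (HomCxFinite.rankOne F I φ q n l) :=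
  (map_smul (rk i F I φ q n).hom s (one₁ i l)).trans rfl

theorem valβ_rk (F I : DRing.Cx A) {p : ℤ} (φ : F.X p →ₗ[A] A) (q n : ℤ) (h : p + n = q)
    (y : (DTen.extM i).obj (I.X q)) (k : F.X p) :
    valβ i F I n p q h k (rk i F I φ q n y) = i (φ k) • y := by
  induction y using induction₁ i with
  | h0 => rw [map_zero, map_zero, smul_zero]
  | hadd x y hx hy => rw [map_add, map_add, hx, hy, smul_add]
  | hs s l => rw [rk_smul_one, valβ_smul, HomCxFinite.rankOne_apply F I φ q n h l k, one₁_smul, smul_comm]

theorem one₁_zero {M : ModuleCat.{u} A} : one₁ i (0 : M) = 0 := by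
  letI := i.toAlgebra
  exact TensorProduct.tmul_zero _ _

theorem valβ_rk_ne (F I : DRing.Cx A) {p : ℤ} (φ : F.X p →ₗ[A] A) (q n p' q' : ℤ) (h : p' + n = q')
    (hne : p' ≠ p) (y : (DTen.extM i).obj (I.X q)) (k : F.X p') :
    valβ i F I n p' q' h k (rk i F I φ q n y) = 0 := by
  induction y using induction₁ i with
  | h0 => rw [map_zero, map_zero]
  | hadd x y hx hy => rw [map_add, map_add, hx, hy, add_zero]
  | hs s l =>
    rw [rk_smul_one, valβ_smul, HomCxFinite.rankOne_apply_ne F I φ q n p' q' h hne l k, one₁_zero]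
    exact smul_zero s

theorem sum_one₁ {M : ModuleCat.{u} A} {ι : Type*} (S : Finset ι) (x : ι → M) :
    one₁ i (∑ j ∈ S, x j) = ∑ j ∈ S, one₁ i (x j) := by
  letI := i.toAlgebra
  exact TensorProduct.tmul_sum _ _ _

theorem val_sum (F : DRing.Cx A) (J : DRing.Cx B) (n p q : ℤ) (h : p + n = q) {ι : Type*} (S : Finset ι)
    (x : ι → F.X p) (w : Cochain ((DTen.extCx i).obj F) J n) :
    val i F J n p q h (∑ j ∈ S, x j) w = ∑ j ∈ S, val i F J n p q h (x j) w := by
  let φ : F.X p →+ J.X q := AddMonoidHom.mk' (fun y => val i F J n p q h y w)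
    (fun y y' => val_add i F J n p q h y y' w)
  exact map_sum φ x S

theorem isIso_β (F I : DRing.Cx A) (hF : ∀ p, Module.Finite A (F.X p) ∧ Module.Projective A (F.X p))
    (a c : ℤ) (hFb : ∀ p, c < p → IsZero (F.X p)) (hIb : ∀ q, q < a → IsZero (I.X q)) : IsIso (β i F I) := by
  classical
  refine @HomologicalComplex.Hom.isIso_of_components _ _ _ _ _ _ _ _ fun n => ?_
  rw [ConcreteCategory.isIso_iff_bijective]
  have hb := fun p => (have := (hF p).1; have := (hF p).2; HomCxFinite.exists_dual_basis (A := A) (F.X p))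
  choose N v f hf using hb
  let S := Finset.Icc (a - n) c
  have hS : ∀ p, p ∉ S → IsZero (F.X p) ∨ IsZero (I.X (p + n)) := fun p hp => by
    simp only [S, Finset.mem_Icc, not_and_or, not_le] at hp
    rcases hp with hp | hp
    · exact Or.inr (hIb _ (by lia))
    · exact Or.inl (hFb p hp)
  let J := (DTen.extCx i).obj I
  let g : Cochain ((DTen.extCx i).obj F) J n →+ (DTen.extM i).obj ((DRing.homCx F I).X n) :=
    ∑ p ∈ S, ∑ s : Fin (N p), ((rk i F I (f p s) (p + n) n).hom ∘ₗ
      val i F J n p (p + n) rfl (v p s)).toAddMonoidHom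
  have hg : ∀ w, g w = ∑ p ∈ S, ∑ s : Fin (N p),
      rk i F I (f p s) (p + n) n (val i F J n p (p + n) rfl (v p s) w) := fun w => by
    simp only [g, AddMonoidHom.finsetSum_apply]
    rfl
  refine Function.bijective_iff_has_inverse.2 ⟨g, fun t => ?_, fun w => ?_⟩
  · show g (βX i F I n t) = t
    induction t using induction₁ i with
    | h0 => exact (congrArg g (map_zero (βX i F I n).hom)).trans (map_zero g)
    | hadd x y hx hy =>
      exact (congrArg g (map_add (βX i F I n).hom x y)).trans ((map_add g _ _).trans (congrArg₂ (· + ·) hx hy))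
    | hs s' z =>
      let z' : Cochain F I n := z
      refine (hg _).trans ?_
      have h1 : ∀ p (s : Fin (N p)), rk i F I (f p s) (p + n) n
          (valβ i F I n p (p + n) rfl (v p s) (s' • one₁ i (M := (DRing.homCx F I).X n) z')) =
          s' • one₁ i (M := (DRing.homCx F I).X n)
            (HomCxFinite.rankOne F I (f p s) (p + n) n (lv p (p + n) rfl z' (v p s))) := fun p s => by
        rw [valβ_smul, rk_smul_one]
      refine (Finset.sum_congr rfl fun p _ => Finset.sum_congr rfl fun s _ => h1 p s).trans ?_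
      simp only [← Finset.smul_sum, ← sum_one₁]
      refine congrArg (fun w => s' • one₁ i (M := (DRing.homCx F I).X n) w) ?_
      show (∑ p ∈ S, ∑ s : Fin (N p), HomCxFinite.rankOne F I (f p s) (p + n) n (lv p (p + n) rfl z' (v p s)) :
        Cochain F I n) = z'
      refine lv_ext fun p' q' h => LinearMap.ext fun k => ?_
      obtain rfl : q' = p' + n := h.symm
      simp only [map_sum, LinearMap.coe_sum, Finset.sum_apply]
      by_cases hp : p' ∈ S
      · refine (Finset.sum_eq_single p' (fun l _ hl => Finset.sum_eq_zero fun s _ =>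
            HomCxFinite.rankOne_apply_ne F I _ _ _ _ _ h hl.symm _ _) (fun h => absurd hp h)).trans ?_
        simp only [HomCxFinite.rankOne_apply _ _ _ _ _ h]
        conv_rhs => rw [← hf p' k, map_sum]
        simp only [map_smul]
      · refine (Finset.sum_eq_zero fun l hl => Finset.sum_eq_zero fun s _ =>
            HomCxFinite.rankOne_apply_ne F I _ _ _ _ _ h (fun e : p' = l => hp (e ▸ hl)) _ _).trans ?_
        rcases hS p' hp with h0 | h0 <;> haveI := ModuleCat.subsingleton_of_isZero h0
        · rw [Subsingleton.elim k 0, map_zero]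
        · exact Subsingleton.elim _ _
  · refine cochain_ext i F J n fun p' q' h k => ?_
    obtain rfl : q' = p' + n := h.symm
    let w' : Cochain ((DTen.extCx i).obj F) J n := w
    show valβ i F I n p' (p' + n) h k (g w') = val i F J n p' (p' + n) h k w'
    rw [hg, map_sum]
    by_cases hp : p' ∈ S
    · refine (Finset.sum_eq_single p' (fun l _ hl => ?_) (fun h => absurd hp h)).trans ?_
      · exact (map_sum _ _ _).trans (Finset.sum_eq_zero fun s _ => valβ_rk_ne i F I _ _ _ _ _ h hl.symm _ _)
      · refine ((map_sum _ _ _).trans (Finset.sum_congr rfl fun s _ =>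
          valβ_rk i F I (f p' s) (p' + n) n h _ k)).trans ?_
        conv_rhs => rw [← hf p' k, val_sum]
        exact Finset.sum_congr rfl fun s _ => (val_smul i F J n p' (p' + n) h _ _ w').symm
    · refine (Finset.sum_eq_zero fun l hl => ?_).trans ?_
      · exact (map_sum _ _ _).trans (Finset.sum_eq_zero fun s _ =>
          valβ_rk_ne i F I _ _ _ _ _ h (fun e : p' = l => hp (e ▸ hl)) _ _)
      · rcases hS p' hp with h0 | h0
        · haveI := ModuleCat.subsingleton_of_isZero h0
          rw [Subsingleton.elim k 0, ← zero_smul A (0 : F.X p')]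
          exact ((val_smul i F J n p' (p' + n) h 0 0 w').trans (by rw [map_zero, zero_smul]; rfl)).symm
        · haveI : Subsingleton (J.X (p' + n)) :=
            ModuleCat.subsingleton_of_isZero ((DTen.extM i).map_isZero h0)
          exact (Subsingleton.elim (α := J.X (p' + n)) _ _)

section Retraction

variable (μ : B →+* A) (hμ : μ.comp i = RingHom.id A)

/-- Evaluation of a cochain at `1 ⊗ x`. -/
noncomputable def evalAt (F : DRing.Cx A) (J : DRing.Cx B) (n p q : ℤ) (h : p + n = q) (x : F.X p) :
    (DRing.homCx ((DTen.extCx i).obj F) J).X n ⟶ J.X q :=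
  ModuleCat.ofHom (X := (DRing.homCx ((DTen.extCx i).obj F) J).X n) (val i F J n p q h x)

/-- Coextension of a Hom complex out of an extended complex, in one degree. -/
noncomputable def Cfun (F : DRing.Cx A) (J : DRing.Cx B) (n : ℤ) :
    (FiniteRing.coI μ (DRing.homCx ((DTen.extCx i).obj F) J)).X n →ₗ[A] Cochain F (FiniteRing.coI μ J) n where
  toFun f := Cochain.mk fun p q h => ModuleCat.ofHom (Y := (FiniteRing.coI μ J).X q)
    { toFun := fun x => (ModuleCat.coextendScalars.{u, u, u} μ).map (evalAt i F J n p q h x) f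
      map_add' := fun x y => ModuleCat.CoextendScalars.ext (LinearMap.ext fun a => by
        exact val_add i F J n p q h x y (ModuleCat.CoextendScalars.equiv μ _ f a))
      map_smul' := fun r x => ModuleCat.CoextendScalars.ext (LinearMap.ext fun a => by
        let F' := ModuleCat.CoextendScalars.equiv μ _ f
        show val i F J n p q h (r • x) (F' a) = val i F J n p q h x (F' ((show A from a) * r))
        have e : F' ((show A from a) * r) = i r • (F' a) := by
          rw [← F'.map_smul]
          refine congrArg F' ?_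
          show (show A from a) * r = μ (i r) * (show A from a)
          rw [show μ (i r) = r from RingHom.congr_fun hμ r, mul_comm]
        rw [e, val_smul]
        exact (map_smul (val i F J n p q h x) (i r) (F' a)).symm) }
  map_add' f g := Cochain.ext _ _ fun p q h => ModuleCat.hom_ext (LinearMap.ext fun x =>
    map_add ((ModuleCat.coextendScalars.{u, u, u} μ).map (evalAt i F J n p q h x)).hom f g)
  map_smul' r f := Cochain.ext _ _ fun p q h => ModuleCat.hom_ext (LinearMap.ext fun x =>
    map_smul ((ModuleCat.coextendScalars.{u, u, u} μ).map (evalAt i F J n p q h x)).hom r f)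

theorem Cfun_apply (F : DRing.Cx A) (J : DRing.Cx B) (n p q : ℤ) (h : p + n = q)
    (f : (FiniteRing.coI μ (DRing.homCx ((DTen.extCx i).obj F) J)).X n) (x : F.X p) (a : A) :
    ModuleCat.CoextendScalars.equiv μ _ (lv p q h (Cfun i μ hμ F J n f) x) a =
      val i F J n p q h x (ModuleCat.CoextendScalars.equiv μ _ f a) := rfl

theorem bijective_Cfun (F : DRing.Cx A) (J : DRing.Cx B) (n : ℤ) :
    Function.Bijective (Cfun i μ hμ F J n) := by
  refine ⟨fun f g hfg => ?_, fun z => ?_⟩
  · refine ModuleCat.CoextendScalars.ext (LinearMap.ext fun a => Cochain.ext _ _ fun p q h =>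
      ModuleCat.ExtendScalars.hom_ext fun x => ?_)
    have := congrArg (fun c => ModuleCat.CoextendScalars.equiv μ _ (lv p q h c x) a) hfg
    exact (Cfun_apply i μ hμ F J n p q h f x a).symm.trans (this.trans (Cfun_apply i μ hμ F J n p q h g x a))
  · have hsmul : ∀ (p q : ℤ) (h : p + n = q) (r a : A) (x : F.X p),
        ModuleCat.CoextendScalars.equiv μ _ (lv p q h z (r • x)) a =
          i r • ModuleCat.CoextendScalars.equiv μ _ (lv p q h z x) a := by
      intro p q h r a x
      rw [map_smul]
      refine (ModuleCat.CoextendScalars.smul_apply μ _ (lv p q h z x) r a).trans ?_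
      rw [← (ModuleCat.CoextendScalars.equiv μ _ (lv p q h z x)).map_smul]
      refine congrArg _ ?_
      show a * r = μ (i r) * a
      rw [show μ (i r) = r from RingHom.congr_fun hμ r, mul_comm]
    let comp : A → ∀ p q : ℤ, p + n = q → (((DTen.extCx i).obj F).X p ⟶ J.X q) := fun a p q h =>
      ((ModuleCat.extendRestrictScalarsAdj.{u} i).homEquiv _ _).symm (ModuleCat.ofHom (Y := (DTen.resM i).obj (J.X q))
        { toFun := fun x => ModuleCat.CoextendScalars.equiv μ _ (lv p q h z x) a
          map_add' := fun x y => (congrArg (fun t => ModuleCat.CoextendScalars.equiv μ _ t a)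
            (map_add (lv p q h z) x y)).trans rfl
          map_smul' := fun r x => hsmul p q h r a x })
    have hcomp : ∀ a p q h x, comp a p q h (one₁ i x) = ModuleCat.CoextendScalars.equiv μ _ (lv p q h z x) a :=
      fun a p q h x => ConcreteCategory.congr_hom
        (((ModuleCat.extendRestrictScalarsAdj.{u} i).homEquiv_unit _ _ _).symm.trans
          (((ModuleCat.extendRestrictScalarsAdj.{u} i).homEquiv _ _).apply_symm_apply _)) x
    let f : (FiniteRing.coI μ (DRing.homCx ((DTen.extCx i).obj F) J)).X n :=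
      (ModuleCat.CoextendScalars.equiv μ _).symm
        { toFun := fun a => (Cochain.mk fun p q h => comp a p q h : Cochain ((DTen.extCx i).obj F) J n)
          map_add' := fun a b => Cochain.ext _ _ fun p q h => ModuleCat.ExtendScalars.hom_ext fun x => by
            show comp _ p q h (one₁ i x) = comp a p q h (one₁ i x) + comp b p q h (one₁ i x)
            rw [hcomp, hcomp, hcomp]
            exact map_add _ _ _
          map_smul' := fun b a => Cochain.ext _ _ fun p q h => ModuleCat.ExtendScalars.hom_ext fun x => by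
            show comp _ p q h (one₁ i x) = b • comp a p q h (one₁ i x)
            rw [hcomp, hcomp]
            exact map_smul _ b a }
    refine ⟨f, Cochain.ext _ _ fun p q h => ModuleCat.hom_ext (LinearMap.ext fun x =>
      ModuleCat.CoextendScalars.ext (LinearMap.ext fun a => ?_))⟩
    exact (Cfun_apply i μ hμ F J n p q h f x a).trans (hcomp a p q h x)

/-- Coextension of a Hom complex out of an extended complex. -/
noncomputable def C (F : DRing.Cx A) (J : DRing.Cx B) :
    FiniteRing.coI μ (DRing.homCx ((DTen.extCx i).obj F) J) ≅ DRing.homCx F (FiniteRing.coI μ J) :=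
  HomologicalComplex.Hom.isoOfComponents
    (fun n => (LinearEquiv.ofBijective (Cfun i μ hμ F J n) (bijective_Cfun i μ hμ F J n)).toModuleIso)
    (fun n m hnm => ModuleCat.hom_ext (LinearMap.ext fun f => lv_ext fun p q h => LinearMap.ext fun x =>
      ModuleCat.CoextendScalars.ext (LinearMap.ext fun a => by
        let f' : (FiniteRing.coI μ (DRing.homCx ((DTen.extCx i).obj F) J)).X n := f
        let c : Cochain ((DTen.extCx i).obj F) J n := ModuleCat.CoextendScalars.equiv μ _ f' a
        refine (congrArg (fun t => ModuleCat.CoextendScalars.equiv μ _ t a)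
          (lv_d (show n + 1 = m from hnm) (Cfun i μ hμ F J n f') p q (q - 1) (p + 1) h rfl rfl x)).trans ?_
        refine Eq.trans ?_ (lv_d (show n + 1 = m from hnm) c p q (q - 1) (p + 1) h rfl rfl (one₁ i x)).symm
        rfl)))

/-- A Hom complex out of a K-projective complex into a K-injective one is K-injective. -/
theorem isKInjective_homCx (P J : DRing.Cx B) (hP : DRing.IsKFlat B P) [J.IsKInjective] :
    CochainComplex.IsKInjective (DRing.homCx P J) where
  nonempty_homotopy_zero {K} f hK := by
    have hKP : (K ⊗ P).Acyclic := fun k => (HomologicalComplex.exactAt_iff_isZero_homology _ _).2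
      (hP K (fun k => (HomologicalComplex.exactAt_iff_isZero_homology _ _).1 (hK k)) k)
    obtain ⟨h⟩ := IsKInjective.nonempty_homotopy_zero (HomCx.homEquiv.symm f) hKP
    obtain ⟨h'⟩ := (HomCx.homotopy_iff (HomCx.homEquiv.symm f) 0).2 ⟨h⟩
    rw [Equiv.apply_symm_apply] at h'
    have h0 : HomCx.homEquiv (0 : K ⊗ P ⟶ J) = 0 := by
      refine HomologicalComplex.hom_ext _ _ fun i => ModuleCat.hom_ext (LinearMap.ext fun x =>
        HomCx.lv_ext fun p q hpq => LinearMap.ext fun k => ?_)
      rw [HomCx.homEquiv_apply]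
      rfl
    exact ⟨h'.trans (Homotopy.ofEq h0)⟩

/-- Transferring a Hom complex through base change and the right adjoint of the retraction. -/
theorem exists_right_iso (hflat : i.Flat) [DRing.HasLBaseChange i] {Rμ : Dual.D B ⥤ Dual.D A}
    (adj : DRing.restrictD μ ⊣ Rμ) (hμ : μ.comp i = RingHom.id A)
    (F I : DRing.Cx A) (hF : ∀ p, Module.Finite A (F.X p) ∧ Module.Projective A (F.X p))
    (a c : ℤ) (hFb : ∀ p, c < p → IsZero (F.X p)) (hIb : ∀ q, q < a → IsZero (I.X q)) :
    ∃ K : DRing.Cx A, K.IsKInjective ∧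
      Nonempty (DerivedCategory.Q.obj K ≅ Rμ.obj ((DRing.LBaseChange i).obj (DerivedCategory.Q.obj I))) ∧
      Nonempty (Rμ.obj ((DRing.LBaseChange i).obj (DerivedCategory.Q.obj (DRing.homCx F I))) ≅
        DerivedCategory.Q.obj (DRing.homCx F K)) := by
  letI := i.toAlgebra
  haveI : Module.Flat A B := hflat
  haveI : DRing.HasLBaseChange (algebraMap A B) := (inferInstance : DRing.HasLBaseChange i)
  haveI : F.IsKProjective := isKProjective_of_bounds projective_of_fproj hFb hF
  haveI : CochainComplex.IsKProjective ((DTen.extCx i).obj F) := BaseChangeU.isKProjective_ext i F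
  let bc : ∀ X : DRing.Cx A, (DRing.LBaseChange i).obj (DerivedCategory.Q.obj X) ≅
      DerivedCategory.Q.obj ((DTen.extCx i).obj X) := fun X =>
    (FlatHom.isoLBaseChange A B).app _ ≪≫ (FlatHom.E A B).mapDerivedCategoryFactors.app X
  obtain ⟨J, hJ, -, ⟨eJ⟩⟩ := Groth.Agent.Lib.RGamma.exists_rep (DerivedCategory.Q.obj ((DTen.extCx i).obj I))
  obtain ⟨q, hq⟩ := EvalHom.exists_Q_map_eq_injective eJ.hom
  haveI : QuasiIso q := by
    rw [← DerivedCategory.isIso_Q_map_iff_quasiIso, hq]
    infer_instance
  haveI := isIso_β i F I hF a c hFb hIb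
  haveI : QuasiIso ((DRing.homCxFunctor ((DTen.extCx i).obj F)).map q) :=
    (DerivedCategory.isIso_Q_map_iff_quasiIso _ _).1
      (RHom.inverts_homCxQ _ q (inferInstance : QuasiIso q))
  haveI := isKInjective_homCx ((DTen.extCx i).obj F) J (KFlat.isKFlat_of_isKProjective _)
  let H := DRing.homCx ((DTen.extCx i).obj F) J
  let e : (DRing.LBaseChange i).obj (DerivedCategory.Q.obj (DRing.homCx F I)) ≅ DerivedCategory.Q.obj H :=
    bc _ ≪≫ DerivedCategory.Q.mapIso (asIso (β i F I)) ≪≫
      @asIso _ _ _ _ (DerivedCategory.Q.map ((DRing.homCxFunctor ((DTen.extCx i).obj F)).map q))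
        (RHom.inverts_homCxQ _ q (inferInstance : QuasiIso q))
  have rep : ∀ (Y : DRing.Cx B) [Y.IsKInjective],
      Nonempty (DerivedCategory.Q.obj (FiniteRing.coI μ Y) ≅ Rμ.obj (DerivedCategory.Q.obj Y)) := fun Y _ =>
    Rep.Represents.unique ⟨_, Rep.isRep_eps μ Y⟩ (Rep.represents_adj adj _)
  obtain ⟨r₁⟩ := rep H
  obtain ⟨r₂⟩ := rep J
  exact ⟨FiniteRing.coI μ J, Rep.isKInjective_coI μ J,
    ⟨r₂ ≪≫ Rμ.mapIso (eJ.symm ≪≫ (bc I).symm)⟩,
    ⟨Rμ.mapIso e ≪≫ r₁.symm ≪≫ DerivedCategory.Q.mapIso (C i μ hμ F J)⟩⟩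

end Retraction

end Groth.Agent.Lib.DMod.RelDual.Extend
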