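import Groth.Agent.Lib.DMod.RelDual.Perfect
import Groth.Agent.Lib.DMod.RelDual.Duality
import Groth.Agent.Lib.DMod.RelDual.Extend
import Groth.Agent.Lib.DMod.ShriekSection
import Groth.Agent.H54.TorPoly
import Mathlib.CategoryTheory.Abelian.Injective.Extend

/-!
Relative dualizing complexes of flat algebras of finite presentation over any ring.
-/

set_option linter.style.haveILetI false

universe u

open CategoryTheory CategoryTheory.Limits Pretriangulated MonoidalCategory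
open CochainComplex CochainComplex.HomComplex
open Groth.Agent.Lib.DR Groth.Agent.Lib.DR.FiniteComplex Groth.Agent.Lib.DR.PseudoCoherent
open Groth.Agent.Lib.DMod
open Groth.Agent.Lib.DR.TorAmp
open scoped TensorProduct

attribute [local instance] HasDerivedCategory.standard

namespace Groth.Agent.Lib.DMod.RelDual.Main

section Iso

variable {R A : Type u} [CommRing R] [CommRing A] [Algebra R A]

theorem isRelPerfect_of_iso {K K' : Dual.D A} (e : K ≅ K') (h : Dual2.IsRelPerfect R A K) :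
    Dual2.IsRelPerfect R A K' := by
  obtain ⟨hpc, a, b, T, hTz, hTf, ⟨eT⟩⟩ := h
  refine ⟨(Representative.isPseudoCoherent'_iff_forall _).2 fun m =>
    ((Representative.isPseudoCoherent'_iff_forall _).1 hpc m).of_iso e,
    a, b, T, hTz, hTf, ⟨eT ≪≫ (DRing.restrictD _).mapIso e⟩⟩

theorem isRelDualizing_of_iso [DRing.HasLBaseChange (Algebra.TensorProduct.includeLeftRingHom : A →+* A ⊗[R] A)]
    {Rμ : Dual.D (A ⊗[R] A) ⥤ Dual.D A} {K K' : Dual.D A} (e : K ≅ K')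
    (h : Dual2.IsRelDualizing R A Rμ K) : Dual2.IsRelDualizing R A Rμ K' :=
  ⟨isRelPerfect_of_iso e h.1, ⟨Rμ.mapIso ((DRing.LBaseChange _).mapIso e.symm) ≪≫ h.2.some⟩⟩

end Iso

section Shift

variable {A : Type u} [CommRing A]

/-- Hom complexes and shifts of the target. -/
noncomputable def homCxShift (F I : DRing.Cx A) (n : ℤ) :
    DRing.homCx F (I⟦n⟧) ≅ (DRing.homCx F I)⟦n⟧ :=
  (HomologicalComplex.Hom.isoOfComponents (C₁ := (DRing.homCx F I)⟦n⟧) (C₂ := DRing.homCx F (I⟦n⟧))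
    (fun m => (LinearEquiv.toModuleIso (R := A) (X₁ := Cochain F I (m + n)) (X₂ := Cochain F (I⟦n⟧) m)
      { toFun := fun z => (z : Cochain F I (m + n)).rightShift n m rfl
        map_add' := fun z z' => Cochain.rightShift_add _ _ _ _ _
        map_smul' := fun r z => Cochain.rightShift_smul (R := A) (z : Cochain F I (m + n)) n m rfl r
        invFun := fun z => ((z : Cochain F (I⟦n⟧) m).rightUnshift (m + n) rfl : Cochain F I (m + n))
        left_inv := fun z => Cochain.rightUnshift_rightShift _ _ _ _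
        right_inv := fun z => Cochain.rightShift_rightUnshift _ _ _ }))
    (fun m m' hmm => ModuleCat.hom_ext (LinearMap.ext fun z => by
      let z' : Cochain F I (m + n) := z
      show δ m m' (z'.rightShift n m rfl) =
        Cochain.rightShift (n.negOnePow • δ (m + n) (m' + n) z') n m' rfl
      rw [Cochain.δ_rightShift z' n m m' rfl (m' + n) rfl, Cochain.rightShift_units_smul]))).symm

theorem nonempty_iso_unit_homCx (I : DRing.Cx A) :
    Nonempty (DRing.homCx (𝟙_ (DRing.Cx A)) I ≅ I) :=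
  haveI := Elem.isIso_homEquiv_rightUnitor I
  ⟨(asIso (HomCx.homEquiv (ρ_ I).hom : I ⟶ DRing.homCx (𝟙_ (DRing.Cx A)) I)).symm⟩

end Shift

variable {R A : Type u} [CommRing R] [CommRing A] [Algebra R A] [Module.Flat R A]
  [Algebra.FinitePresentation R A] {n : ℕ} {ψ : MvPolynomial (Fin n) R →ₐ[R] A}
  [DRing.HasLBaseChange (algebraMap R (MvPolynomial (Fin n) R))]
  {Rψ : Dual.D (MvPolynomial (Fin n) R) ⥤ Dual.D A}

/-- A bounded below K-injective resolution of the polynomial ring. -/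
theorem exists_resolution (P : Type u) [CommRing P] :
    ∃ (J : DRing.Cx P) (ι : 𝟙_ (DRing.Cx P) ⟶ J), J.IsKInjective ∧ QuasiIso ι ∧ ∀ q, q < 0 → IsZero (J.X q) := by
  let r := InjectiveResolution.of (ModuleCat.of P P)
  refine ⟨r.cochainComplex, r.ι', CochainComplex.isKInjective_of_injective _ 0,
    (inferInstance : QuasiIso r.ι'), fun q hq => ?_⟩
  exact r.cochainComplex.isZero_of_isStrictlyGE 0 q hq

omit [Module.Flat R A] [Algebra.FinitePresentation R A] in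
theorem nonempty_shriek_iso (adj : DRing.restrictD ψ.toRingHom ⊣ Rψ) (J : DRing.Cx (MvPolynomial (Fin n) R))
    [J.IsKInjective] (ι : 𝟙_ (DRing.Cx (MvPolynomial (Fin n) R)) ⟶ J) [QuasiIso ι] :
    Nonempty (DerivedCategory.Q.obj (FiniteRing.coI ψ.toRingHom J) ≅
      Rψ.obj ((DRing.LBaseChange (algebraMap R (MvPolynomial (Fin n) R))).obj (Dual.inD R R))) := by
  obtain ⟨e⟩ := ShriekSelf.nonempty_lbc_inD_self (A := R) (B := MvPolynomial (Fin n) R)
  obtain ⟨e'⟩ := Rep.Represents.unique ⟨_, Rep.isRep_eps ψ.toRingHom J⟩ (Rep.represents_adj adj _)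
  exact ⟨e' ≪≫ Rψ.mapIso ((asIso (DerivedCategory.Q.map ι)).symm ≪≫
    ((DerivedCategory.singleFunctorIsoCompQ (ModuleCat.{u} (MvPolynomial (Fin n) R)) 0).app _).symm ≪≫ e.symm)⟩

/-- The relative dualizing object is relatively perfect. -/
theorem isRelPerfect_shriek (hψ : Function.Surjective ψ) (adj : DRing.restrictD ψ.toRingHom ⊣ Rψ) :
    Dual2.IsRelPerfect R A (Dual2.shriekVia n Rψ (Dual.inD R R)) := by
  let P := MvPolynomial (Fin n) R
  obtain ⟨J, ι, hJ, hι, -⟩ := exists_resolution P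
  have hU : Perfect.Pf ((DRing.restrictD ψ.toRingHom).obj (DerivedCategory.Q.obj (𝟙_ (DRing.Cx A)))) :=
    (Perfect.pf_iff _).1 (ShriekKT.isPerfect_res_unit ψ hψ)
  obtain ⟨a, b, E, hE, hp, ⟨e⟩⟩ := id hU
  haveI := isKProjective_of_bounds projective_of_fproj (fun i hi => hE i (Or.inr hi)) hp
  obtain ⟨f, hf⟩ := Basic.exists_Q_map_eq (E := E) (e.hom ≫ (DTen.resFactors ψ.toRingHom).hom.app _)
  haveI : QuasiIso f := by
    rw [← DerivedCategory.isIso_Q_map_iff_quasiIso, hf]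
    infer_instance
  obtain ⟨u⟩ := nonempty_iso_unit_homCx (FiniteRing.coI ψ.toRingHom J)
  obtain ⟨eω⟩ := nonempty_shriek_iso adj J ι
  let ω₀ := Rψ.obj ((DRing.LBaseChange (algebraMap R P)).obj (Dual.inD R R))
  have h1 := RHomRes.isIso_precomp f J
  have h2 : IsIso (DerivedCategory.Q.map ((DRing.homCxFunctor E).map ι)) :=
    RHom.inverts_homCxQ E ι (inferInstance : QuasiIso ι)
  have hres : Perfect.Pf ((DRing.restrictD ψ.toRingHom).obj ω₀) :=
    (Duality.pf_dual E a b hE hp).of_iso (@asIso _ _ _ _ _ h2 ≪≫ (@asIso _ _ _ _ _ h1).symm ≪≫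
      DerivedCategory.Q.mapIso (Duality.Ψ ψ.toRingHom (𝟙_ (DRing.Cx A)) J).symm ≪≫
      ((DTen.resFactors ψ.toRingHom).app _).symm ≪≫
      (DRing.restrictD ψ.toRingHom).mapIso (DerivedCategory.Q.mapIso u ≪≫ eω))
  have hres' : Perfect.Pf ((DRing.restrictD ψ.toRingHom).obj (Dual2.shriekVia n Rψ (Dual.inD R R))) :=
    (hres.shift n).of_iso (((DRing.restrictD ψ.toRingHom).commShiftIso (n : ℤ)).app ω₀).symm
  refine ⟨(Groth.Agent.H54.PCRestrict.isPseudoCoherent'_res_iff (Perfect.pcRing ψ hψ) _).2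
    ((Representative.isPseudoCoherent'_iff_forall _).2 fun m => hres'.pcn m), ?_⟩
  obtain ⟨a', b', hb⟩ := hres'
  have hflat : (algebraMap R P).Flat := RingHom.flat_algebraMap_iff.2 inferInstance
  obtain ⟨T, hTz, hTf, ⟨eT⟩⟩ := Groth.Agent.H54.TorPoly.bdd_flat_res hflat
    (hb.of_le fun X hX => BaseChange.flat_of_fproj X hX)
  obtain ⟨eR⟩ := Groth.Agent.H54.PCRestrict.restrictD_comp (algebraMap R P) ψ.toRingHom (Dual2.shriekVia n Rψ (Dual.inD R R))
  exact ⟨a', b', T, hTz, hTf, ⟨eT ≪≫ eR.symm ≪≫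
    eqToIso (by rw [show ψ.toRingHom.comp (algebraMap R P) = algebraMap R A from RingHom.ext fun r => ψ.commutes r])⟩⟩

/-- A relatively perfect object as a dual into a resolution of the relative dualizing object. -/
theorem exists_dual_rep (hψ : Function.Surjective ψ) (adj : DRing.restrictD ψ.toRingHom ⊣ Rψ)
    {L : Dual.D A} (hL : Dual2.IsRelPerfect R A L) :
    ∃ (I₀ F₀ F : DRing.Cx A) (b : ℤ), I₀.IsKInjective ∧ (∀ q, q < 0 → IsZero (I₀.X q)) ∧
      Nonempty (DerivedCategory.Q.obj (I₀⟦(n : ℤ)⟧) ≅ Dual2.shriekVia n Rψ (Dual.inD R R)) ∧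
      (∀ p, b < p → IsZero (F.X p)) ∧ (∀ p, ff A (F.X p)) ∧
      Nonempty (DerivedCategory.Q.obj F₀ ≅ L⟦-(n : ℤ)⟧) ∧
      Nonempty (DerivedCategory.Q.obj F ≅ DerivedCategory.Q.obj (DRing.homCx F₀ I₀)) ∧
      Nonempty (DerivedCategory.Q.obj (DRing.homCx F (I₀⟦(n : ℤ)⟧)) ≅ L) := by
  let φ := ψ.toRingHom
  obtain ⟨J, ι, hJ, hι, hJb⟩ := exists_resolution (MvPolynomial (Fin n) R)
  let I := FiniteRing.coI φ J
  haveI : CochainComplex.IsKInjective I := Rep.isKInjective_coI φ J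
  let F₀ := DerivedCategory.Q.objPreimage (L⟦-(n : ℤ)⟧)
  let eF₀ : DerivedCategory.Q.obj F₀ ≅ L⟦-(n : ℤ)⟧ := DerivedCategory.Q.objObjPreimageIso _
  have hF₀ : Perfect.Pf ((DRing.restrictD φ).obj (DerivedCategory.Q.obj F₀)) :=
    ((Perfect.pf_res ψ hψ hL).shift (-(n : ℤ))).of_iso
      ((((DRing.restrictD φ).commShiftIso (-(n : ℤ))).app L).symm ≪≫ (DRing.restrictD φ).mapIso eF₀.symm)
  obtain ⟨hpc, hbd⟩ := Duality.exists_dual φ (Perfect.pcRing ψ hψ) J ι F₀ hF₀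
  obtain ⟨b, F, hb, hbe⟩ := (Representative.isPseudoCoherent'_iff _).1 hpc
  obtain ⟨eF⟩ := hbe.2
  haveI := isKProjective_of_bounds projective_of_ff hb hbe.1
  obtain ⟨q, hq⟩ := Basic.exists_Q_map_eq (E := F) eF.hom
  haveI : QuasiIso q := by
    rw [← DerivedCategory.isIso_Q_map_iff_quasiIso, hq]
    infer_instance
  have h1 := RHomRes.isIso_precomp q I
  obtain ⟨eω⟩ := nonempty_shriek_iso adj J ι
  refine ⟨I, F₀, F, b, inferInstance, fun p hp => (ModuleCat.coextendScalars.{u, u, u} φ).map_isZero (hJb p hp),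
    ⟨(DerivedCategory.Q.commShiftIso (n : ℤ)).app I ≪≫ (CategoryTheory.shiftFunctor (Dual.D A) (n : ℤ)).mapIso eω⟩,
    hb, hbe.1, ⟨eF₀⟩, ⟨eF⟩, ⟨?_⟩⟩
  exact DerivedCategory.Q.mapIso (homCxShift F I n) ≪≫ (DerivedCategory.Q.commShiftIso (n : ℤ)).app _ ≪≫
    (CategoryTheory.shiftFunctor (Dual.D A) (n : ℤ)).mapIso
      ((@asIso _ _ _ _ _ h1).symm ≪≫ (@asIso _ _ _ _ _ hbd).symm ≪≫ eF₀) ≪≫
    (shiftFunctorCompIsoId (Dual.D A) (-(n : ℤ)) n (neg_add_cancel _)).app L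

/-- The upper shriek of the base pulled back along the diagonal is trivial. -/
theorem nonempty_right_shriek (hψ : Function.Surjective ψ) (adj : DRing.restrictD ψ.toRingHom ⊣ Rψ)
    [DRing.HasLBaseChange (Algebra.TensorProduct.includeLeftRingHom : A →+* A ⊗[R] A)]
    {Rμ : Dual.D (A ⊗[R] A) ⥤ Dual.D A}
    (adjμ : DRing.restrictD (Algebra.TensorProduct.lmul' R (S := A)).toRingHom ⊣ Rμ) :
    Nonempty (Rμ.obj ((DRing.LBaseChange (Algebra.TensorProduct.includeLeftRingHom : A →+* A ⊗[R] A)).obj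
      (Dual2.shriekVia n Rψ (Dual.inD R R))) ≅ Dual.inD A A) := by
  let ω := Dual2.shriekVia n Rψ (Dual.inD R R)
  let iR : A →+* A ⊗[R] A := (Algebra.TensorProduct.includeRight : A →ₐ[R] A ⊗[R] A).toRingHom
  let μ : A ⊗[R] A →+* A := (Algebra.TensorProduct.lmul' R (S := A)).toRingHom
  let σ : A ⊗[R] A →+* A ⊗[R] A := (Algebra.TensorProduct.comm R A A).toAlgHom.toRingHom
  have hσ : σ.comp σ = RingHom.id _ := RingHom.ext fun z => by
    induction z using TensorProduct.induction_on with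
    | zero => simp
    | add x y hx hy => rw [map_add, map_add, hx, hy]
    | tmul x y => rfl
  have hμ : μ.comp σ = μ := RingHom.ext fun z => by
    induction z using TensorProduct.induction_on with
    | zero => simp
    | add x y hx hy => rw [map_add, map_add, hx, hy]
    | tmul x y => exact mul_comm y x
  haveI : DRing.HasLBaseChange iR := BaseChangeU.hasLBaseChange iR
  obtain ⟨e₁⟩ := ShriekSection.nonempty_swap σ hσ μ hμ iR Algebra.TensorProduct.includeLeftRingHom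
    (RingHom.ext fun x => rfl) adjμ ω
  haveI : DRing.HasLBaseChange (algebraMap R A) := BaseChangeU.hasLBaseChange _
  let ν : A ⊗[R] A →ₐ[A] A :=
    { μ with commutes' := fun x => show x * 1 = x from mul_one x }
  have key : ∀ (R' : Type u) (_ : CommRing R') (_ : Algebra R R')
      (ν : R' ⊗[R] A →ₐ[R'] R') (Rν : Dual.D (R' ⊗[R] A) ⥤ Dual.D R')
      (_ : DRing.restrictD ν.toRingHom ⊣ Rν)
      (_ : DRing.HasLBaseChange (Algebra.TensorProduct.includeRight : A →ₐ[R] R' ⊗[R] A).toRingHom)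
      (_ : DRing.HasLBaseChange (algebraMap R R')),
      Nonempty (Rν.obj ((DRing.LBaseChange
        (Algebra.TensorProduct.includeRight : A →ₐ[R] R' ⊗[R] A).toRingHom).obj ω) ≅ Dual.inD R' R') := by
    intro R' _ _ ν Rν adjν hI hρ
    letI : Algebra A (R' ⊗[R] A) := Algebra.TensorProduct.rightAlgebra
    haveI : DRing.HasLBaseChange (algebraMap A (R' ⊗[R] A)) := hI
    obtain ⟨e⟩ := ShriekSection.nonempty_section_iso hψ adj ν adjν (Dual.inD R R)
    obtain ⟨e'⟩ := ShriekSelf.nonempty_lbc_inD_self (A := R) (B := R')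
    exact ⟨e ≪≫ e'⟩
  obtain ⟨e₂⟩ := key A inferInstance inferInstance ν Rμ adjμ inferInstance inferInstance
  exact ⟨e₁ ≪≫ e₂⟩

theorem isRelDualizing_shriek (hψ : Function.Surjective ψ) (adj : DRing.restrictD ψ.toRingHom ⊣ Rψ)
    [DRing.HasLBaseChange (Algebra.TensorProduct.includeLeftRingHom : A →+* A ⊗[R] A)]
    {Rμ : Dual.D (A ⊗[R] A) ⥤ Dual.D A}
    (adjμ : DRing.restrictD (Algebra.TensorProduct.lmul' R (S := A)).toRingHom ⊣ Rμ) :
    Dual2.IsRelDualizing R A Rμ (Dual2.shriekVia n Rψ (Dual.inD R R)) :=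
  ⟨isRelPerfect_shriek hψ adj, nonempty_right_shriek hψ adj adjμ⟩

/-- A relative dualizing complex is the upper shriek of the base. -/
theorem nonempty_iso_shriek (hψ : Function.Surjective ψ) (adj : DRing.restrictD ψ.toRingHom ⊣ Rψ)
    [DRing.HasLBaseChange (Algebra.TensorProduct.includeLeftRingHom : A →+* A ⊗[R] A)]
    {Rμ : Dual.D (A ⊗[R] A) ⥤ Dual.D A}
    (adjμ : DRing.restrictD (Algebra.TensorProduct.lmul' R (S := A)).toRingHom ⊣ Rμ)
    {L : Dual.D A} (hL : Dual2.IsRelDualizing R A Rμ L) :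
    Nonempty (L ≅ Dual2.shriekVia n Rψ (Dual.inD R R)) := by
  obtain ⟨I₀, F₀, F, b, hI₀, hIb, ⟨eω⟩, hFb, hFf, -, -, ⟨eL⟩⟩ := exists_dual_rep hψ adj hL.1
  obtain ⟨gω⟩ := nonempty_right_shriek hψ adj adjμ
  obtain ⟨gL⟩ := hL.2
  let i : A →+* A ⊗[R] A := Algebra.TensorProduct.includeLeftRingHom
  let μ : A ⊗[R] A →+* A := (Algebra.TensorProduct.lmul' R (S := A)).toRingHom
  have hflat : i.Flat := (RingHom.flat_algebraMap_iff (R := A) (S := A ⊗[R] A)).2 inferInstance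
  let I := I₀⟦(n : ℤ)⟧
  have hproj : ∀ p, Module.Finite A (F.X p) ∧ Module.Projective A (F.X p) := fun p => fproj_of_ff _ (hFf p)
  obtain ⟨K, hK, ⟨eK⟩, ⟨eG⟩⟩ := Extend.exists_right_iso i μ hflat adjμ
    (RingHom.ext fun x => mul_one x) F I hproj (-(n : ℤ)) b hFb fun q hq => hIb (q + n) (by lia)
  let e₁ : Dual.inD A A ≅ DTen.unit A := (DerivedCategory.singleFunctorIsoCompQ (ModuleCat.{u} A) 0).app _
  obtain ⟨eF⟩ := Elem.nonempty_iso_unit (F := F) (K := K) ⟨F, b, hFb, hFf, ⟨Iso.refl _⟩⟩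
    (eK ≪≫ Rμ.mapIso ((DRing.LBaseChange i).mapIso eω) ≪≫ gω ≪≫ e₁)
    (eG.symm ≪≫ Rμ.mapIso ((DRing.LBaseChange i).mapIso eL) ≪≫ gL ≪≫ e₁)
  haveI := isKProjective_of_bounds projective_of_ff hFb hFf
  obtain ⟨h, hh⟩ := Basic.exists_Q_map_eq (E := 𝟙_ (DRing.Cx A)) eF.inv
  haveI : QuasiIso h := by
    rw [← DerivedCategory.isIso_Q_map_iff_quasiIso, hh]
    infer_instance
  have h1 := RHomRes.isIso_precomp h I
  obtain ⟨u⟩ := nonempty_iso_unit_homCx I
  exact ⟨eL.symm ≪≫ @asIso _ _ _ _ _ h1 ≪≫ DerivedCategory.Q.mapIso u ≪≫ eω⟩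

/-- Relative dualizing complexes have trivial endomorphisms. -/
theorem endTrivial_shriek (hψ : Function.Surjective ψ) (adj : DRing.restrictD ψ.toRingHom ⊣ Rψ) :
    ShriekSelf.EndTrivial (Dual2.shriekVia n Rψ (Dual.inD R R)) := by
  let ω := Dual2.shriekVia n Rψ (Dual.inD R R)
  haveI : DRing.HasLBaseChange (Algebra.TensorProduct.includeLeftRingHom : A →+* A ⊗[R] A) :=
    BaseChangeU.hasLBaseChange _
  obtain ⟨Rμ, ⟨adjμ⟩⟩ := (ShriekBC.hasRHomRel (Algebra.TensorProduct.lmul' R (S := A)).toRingHom).1.exists_rightAdjoint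
  obtain ⟨I₀, F₀, F, b, hI₀, hIb, ⟨eω⟩, hFb, hFf, ⟨eF₀⟩, ⟨eX⟩, ⟨eL⟩⟩ :=
    exists_dual_rep hψ adj (isRelPerfect_shriek hψ adj)
  obtain ⟨gω⟩ := nonempty_right_shriek hψ adj adjμ
  let i : A →+* A ⊗[R] A := Algebra.TensorProduct.includeLeftRingHom
  let μ : A ⊗[R] A →+* A := (Algebra.TensorProduct.lmul' R (S := A)).toRingHom
  have hflat : i.Flat := (RingHom.flat_algebraMap_iff (R := A) (S := A ⊗[R] A)).2 inferInstance
  let I := I₀⟦(n : ℤ)⟧
  have hproj : ∀ p, Module.Finite A (F.X p) ∧ Module.Projective A (F.X p) := fun p => fproj_of_ff _ (hFf p)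
  obtain ⟨K, hK, ⟨eK⟩, ⟨eG⟩⟩ := Extend.exists_right_iso i μ hflat adjμ
    (RingHom.ext fun x => mul_one x) F I hproj (-(n : ℤ)) b hFb fun q hq => hIb (q + n) (by lia)
  let e₁ : Dual.inD A A ≅ DTen.unit A := (DerivedCategory.singleFunctorIsoCompQ (ModuleCat.{u} A) 0).app _
  obtain ⟨eF⟩ := Elem.nonempty_iso_unit (F := F) (K := K) ⟨F, b, hFb, hFf, ⟨Iso.refl _⟩⟩
    (eK ≪≫ Rμ.mapIso ((DRing.LBaseChange i).mapIso eω) ≪≫ gω ≪≫ e₁)
    (eG.symm ≪≫ Rμ.mapIso ((DRing.LBaseChange i).mapIso eL) ≪≫ gω ≪≫ e₁)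
  -- `Hom(I₀, I₀)` is the unit
  let e₀ : DerivedCategory.Q.obj F₀ ≅ DerivedCategory.Q.obj I₀ := eF₀ ≪≫
    (CategoryTheory.shiftFunctor (Dual.D A) (-(n : ℤ))).mapIso (eω.symm ≪≫ (DerivedCategory.Q.commShiftIso (n : ℤ)).app I₀) ≪≫
    (shiftFunctorCompIsoId (Dual.D A) (n : ℤ) (-(n : ℤ)) (add_neg_cancel _)).app _
  obtain ⟨v, hv⟩ := EvalHom.exists_Q_map_eq_injective e₀.hom
  haveI : QuasiIso v := by
    rw [← DerivedCategory.isIso_Q_map_iff_quasiIso, hv]
    infer_instance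
  have h1 := RHomRes.isIso_precomp v I₀
  obtain ⟨g, hg⟩ := Basic.exists_Q_map_eq (E := 𝟙_ (DRing.Cx A))
    (eF.inv ≫ eX.hom ≫ (@asIso _ _ _ _ _ h1).inv)
  have hgq : QuasiIso g := by
    rw [← DerivedCategory.isIso_Q_map_iff_quasiIso, hg]
    exact IsIso.comp_isIso' inferInstance (IsIso.comp_isIso' inferInstance inferInstance)
  obtain ⟨w, hw, hw0⟩ := @Elem.exists_generator _ _ I₀ I₀ _ g hgq
  have hI₀' : ShriekSelf.EndTrivial (DerivedCategory.Q.obj I₀) := ⟨Elem.bijective_smul_id w hw, hw0⟩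
  exact ShriekSelf.endTrivial_of_iso (((DerivedCategory.Q.commShiftIso (n : ℤ)).app I₀).symm ≪≫ eω)
    (ShriekSelf.endTrivial_shift hI₀' n)

end Groth.Agent.Lib.DMod.RelDual.Main
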