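import Groth.Agent.H54.FlatFP
import Groth.Agent.H54.PerfHom
import Groth.Prelude.Def_DualSh

/-!
Relatively perfect objects are perfect over a polynomial presentation.
-/

set_option linter.style.haveILetI false

universe u

open CategoryTheory CategoryTheory.Limits CategoryTheory.Pretriangulated
open Groth.Agent.Lib.DR
open Groth.Agent.Lib.DR.Basic Groth.Agent.Lib.DR.FiniteComplex Groth.Agent.Lib.DR.PseudoCoherent
open Groth.Agent.Lib.DR.TorAmp Groth.Agent.Lib.DR.BaseChange
open Groth.Agent.H54.PCRestrict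

attribute [local instance] HasDerivedCategory.standard

namespace Groth.Agent.Lib.DMod.RelDual.Perfect

variable {R A : Type u} [CommRing R] [CommRing A] [Algebra R A] {n : ℕ}

/-- Objects of a polynomial ring which are flat over the base have finite flat amplitude. -/
theorem exists_bdd_flat_mv (E : DRing.Cx (MvPolynomial (Fin n) R)) (a b : ℤ)
    (hE : ∀ i, i < a ∨ b < i → IsZero (E.X i))
    (hp : ∀ i, flat R ((res (algebraMap R (MvPolynomial (Fin n) R))).obj (E.X i))) :
    ∃ a' b', Bdd (flat (MvPolynomial (Fin n) R)) a' b' (DerivedCategory.Q.obj E) := by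
  let P := MvPolynomial (Fin n) R
  let F := res (algebraMap R P)
  let good : Good (fun M : ModuleCat.{u} P => flat R (F.obj M)) :=
    { zero := fun h => good_flat.zero (F.map_isZero h)
      biprod := fun {X Y} hX hY => by
        haveI : PreservesBinaryBiproduct X Y F := preservesBinaryBiproduct_of_preservesBiproduct F X Y
        exact good_flat.iso (F.mapBiprod X Y).symm (good_flat.biprod hX hY)
      iso := fun e h => good_flat.iso (F.mapIso e) h }
  refine bdd_induction good (fun X => ∃ a' b', Bdd (flat P) a' b' X)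
    (fun hX => ⟨0, 0, bdd_zero good_flat hX 0 0⟩) ?_ E a b hE hp fun S i _ _ ⟨e⟩ => ?_
  · rintro T hT ⟨a₁, b₁, h₁⟩ ⟨a₃, b₃, h₃⟩
    exact ⟨min a₁ a₃, max b₁ b₃, bdd_flat_ext T hT (h₁.mono (min_le_left _ _) (le_max_left _ _))
      (h₃.mono (min_le_right _ _) (le_max_right _ _))⟩
  · have hS : flat R (F.obj S) := good.iso e.symm (hp i)
    have h := Groth.Agent.H54.TorPoly.bdd_flat_mv (RingHom.id P) S 0
      (bdd_single good_flat (show flat R ((res ((RingHom.id P).comp MvPolynomial.C)).obj S) from hS) 0)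
    have h' : Bdd (flat P) (0 - (n : ℤ)) 0 ((sgl P 0).obj S) :=
      h.of_iso ((sgl P 0).mapIso ((ModuleCat.restrictScalarsId.{u} P).app S))
    exact ⟨_, _, (h'.shift good_flat (-i) (0 - (n : ℤ) + i) (0 + i) (by ring) (by ring)).of_iso (singleShift S (-i) i 0 (by lia))⟩

theorem pcRing [Algebra.FinitePresentation R A] [Module.Flat R A]
    (ψ : MvPolynomial (Fin n) R →ₐ[R] A) (hψ : Function.Surjective ψ) : PCRing ψ.toRingHom :=
  (Groth.Agent.H54.RelPC.hom_iff_of_surjective ψ hψ).1 (Groth.Agent.H54.FlatFP.hom_of_flat R A)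

/-- A relatively perfect object is perfect over the polynomial ring. -/
theorem pf_res [Algebra.FinitePresentation R A] [Module.Flat R A]
    (ψ : MvPolynomial (Fin n) R →ₐ[R] A) (hψ : Function.Surjective ψ) {L : Dual.D A}
    (hL : Dual2.IsRelPerfect R A L) : Perfect.Pf ((DRing.restrictD ψ.toRingHom).obj L) := by
  obtain ⟨hpc, a, c, hT⟩ := hL
  let P := MvPolynomial (Fin n) R
  let X := (DRing.restrictD ψ.toRingHom).obj L
  have hX : ∀ m, PCn (ff P) m X :=
    (Representative.isPseudoCoherent'_iff_forall _).1 ((isPseudoCoherent'_res_iff (pcRing ψ hψ) L).1 hpc)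
  obtain ⟨b, hb, hbz, hbe⟩ := (Representative.isPseudoCoherent'_iff _).1
    ((isPseudoCoherent'_res_iff (pcRing ψ hψ) L).1 hpc)
  obtain ⟨eE⟩ := hbe.2
  let E := hb
  let ι := algebraMap R P
  let ER : DRing.Cx R := ((res ι).mapHomologicalComplex (.up ℤ)).obj E
  have hflat : ∀ i, flat R (ER.X i) := fun i =>
    Groth.Agent.H54.TorPoly.res_flat (RingHom.flat_algebraMap_iff.2 inferInstance) _
      (flat_of_fproj _ (fproj_of_ff _ (hbe.1 i)))
  obtain ⟨eR⟩ := restrictD_comp ι ψ.toRingHom L
  let e : DerivedCategory.Q.obj ER ≅ (DRing.restrictD (algebraMap R A)).obj L :=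
    (ExactPush.mapQ (res ι) E).symm ≪≫ (DRing.restrictD ι).mapIso eE ≪≫ eR.symm ≪≫
      eqToIso (by rw [show ψ.toRingHom.comp ι = algebraMap R A from RingHom.ext fun r => ψ.commutes r])
  have hT' : Bdd (flat R) a c (DerivedCategory.Q.obj ER) := by
    obtain ⟨T, hTz, hTf, ⟨eT⟩⟩ := hT
    exact ⟨T, hTz, hTf, ⟨eT ≪≫ e.symm⟩⟩
  have hbzR : ∀ i, b < i → IsZero (ER.X i) := fun i hi => (res ι).map_isZero (hbz i hi)
  have hcoker := flat_coker ER hbzR hflat hT'
  have hge : E.IsGE a := (CochainComplex.isGE_iff E a).2 fun i hi => by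
    have h1 : ER.ExactAt i := (CochainComplex.isGE_iff ER a).1
      ((DerivedCategory.isGE_Q_obj_iff ER a).1 hT'.isGE) i hi
    rw [HomologicalComplex.exactAt_iff] at h1 ⊢
    exact (ShortComplex.exact_map_iff_of_faithful _ (res ι)).1 h1
  let good : Good (fun M : ModuleCat.{u} P => flat R ((res ι).obj M)) :=
    { zero := fun h => good_flat.zero ((res ι).map_isZero h)
      biprod := fun {X Y} hX hY => by
        haveI : PreservesBinaryBiproduct X Y (res ι) := preservesBinaryBiproduct_of_preservesBiproduct _ X Y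
        exact good_flat.iso ((res ι).mapBiprod X Y).symm (good_flat.biprod hX hY)
      iso := fun e h => good_flat.iso ((res ι).mapIso e) h }
  have hop : flat R ((res ι).obj (ModuleCat.of P ((E.X a) ⧸ LinearMap.range (E.d (a - 1) a).hom))) := by
    let M := (res ι).obj (ModuleCat.of P ((E.X a) ⧸ LinearMap.range (E.d (a - 1) a).hom))
    let π : (ER.X a) →ₗ[R] M :=
      ((res ι).map (ModuleCat.ofHom (LinearMap.range (E.d (a - 1) a).hom).mkQ)).hom
    have hπ : Function.Surjective π := fun y => Submodule.Quotient.mk_surjective _ y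
    have hk : LinearMap.ker π = LinearMap.range (ER.d (a - 1) a).hom := by
      ext v
      exact Submodule.Quotient.mk_eq_zero (p := LinearMap.range (E.d (a - 1) a).hom) (x := (show E.X a from v))
    exact Module.Flat.of_linearEquiv
      ((Submodule.quotEquivOfEq _ _ hk.symm).trans (π.quotKerEquivOfSurjective hπ)).symm
  obtain ⟨G, hGz, hGp, ⟨eG⟩⟩ := bdd_of_opcycles good (E := E) (a := a) (b := b) hbz (fun i _ => hflat i)
    ((DerivedCategory.isGE_Q_obj_iff E a).2 hge) hop
  obtain ⟨a', b', hB⟩ := exists_bdd_flat_mv G a b hGz hGp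
  exact pf_of_pcn_of_flat (hX _) (hB.of_iso (eG ≪≫ eE))

end Groth.Agent.Lib.DMod.RelDual.Perfect
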